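import Groth.Agent.Lib.Flat55.FibreDimApps
import Groth.Agent.Lib.ModelFibre.Centered
import Groth.Agent.Lib.Cyc.TorPD
import Groth.Prelude.Def_EGA4Misc

/-!
# Morphisms that are isomorphisms over a nonempty open
-/

set_option autoImplicit false
set_option linter.style.haveILetI false
universe u

open CategoryTheory Limits AlgebraicGeometry TopologicalSpace

namespace Groth.Agent.Lib.Amp36.Modif.Birat

variable {Z W : Scheme.{u}} (p : Z ⟶ W) (V : W.Opens) [IsIso (p ∣_ V)]

theorem stalkMap_bijective {z : Z} (hz : p z ∈ V) : Function.Bijective (p.stalkMap z) := by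
  haveI : IsOpenImmersion (p ∣_ V) := inferInstance
  have h : IsIso ((p ∣_ V).stalkMap (⟨z, hz⟩ : p ⁻¹ᵁ V)) := by
    set_option backward.isDefEq.respectTransparency.types false in infer_instance
  have h' := ((MorphismProperty.isomorphisms CommRingCat.{u}).arrow_mk_iso_iff
    (morphismRestrictStalkMap p V ⟨z, hz⟩)).1 h
  haveI : IsIso (p.stalkMap z) := h'
  exact ConcreteCategory.bijective_of_isIso _

theorem eq_of_apply_eq {z z' : Z} (hz : p z ∈ V) (h : p z = p z') : z = z' := by
  have h0 : (p ∣_ V) (⟨z, hz⟩ : p ⁻¹ᵁ V) = (p ∣_ V) ⟨z', show p z' ∈ V from h ▸ hz⟩ :=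
    Subtype.ext ((morphismRestrict_base_coe p V _).trans (h.trans (morphismRestrict_base_coe p V (⟨z', show p z' ∈ V from h ▸ hz⟩ : p ⁻¹ᵁ V)).symm))
  have h1 := (asIso (p ∣_ V)).hom.homeomorph.injective h0
  exact congrArg Subtype.val h1

theorem exists_apply_eq {w : W} (hw : w ∈ V) : ∃ z : Z, p z = w := by
  refine ⟨((inv (p ∣_ V)) ⟨w, hw⟩).1, ?_⟩
  refine (morphismRestrict_base_coe p V _).symm.trans (Eq.trans (congrArg Subtype.val
    (a₂ := (⟨w, hw⟩ : V)) ?_) rfl)
  exact Subtype.ext (congrArg Subtype.val (by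
    show (inv (p ∣_ V) ≫ (p ∣_ V)) _ = _
    rw [IsIso.inv_hom_id]
    rfl))

variable [IsIntegral Z] [IsIntegral W] (hV : (V : Set W).Nonempty)

include hV in
theorem apply_genericPoint : p (genericPoint Z) = genericPoint W := by
  obtain ⟨w, hw⟩ := hV
  obtain ⟨z, hz⟩ := exists_apply_eq p V
    (((genericPoint_specializes w).mem_open V.2 hw : genericPoint W ∈ V))
  exact (((genericPoint_specializes z).map p.continuous).trans (hz ▸ specializes_rfl)).antisymm
    (genericPoint_specializes _) |>.eq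

include hV in
theorem apply_genericPoint_mem : p (genericPoint Z) ∈ V := by
  obtain ⟨w, hw⟩ := hV
  rw [apply_genericPoint p V ⟨w, hw⟩]
  exact (genericPoint_specializes w).mem_open V.2 hw

include hV in
theorem isBirational : RadPt.IsBirational p := by
  have hgen : ∀ (T : Scheme.{u}) [IsIntegral T], genericPoints T = {genericPoint T} := fun T _ => by
    ext t
    simp only [genericPoints, Set.mem_setOf_eq, irreducibleComponents_eq_singleton,
      Set.mem_singleton_iff]
    exact ⟨fun h => IsGenericPoint.eq h (genericPoint_spec T),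
      fun h => h ▸ (genericPoint_spec T)⟩
  unfold RadPt.IsBirational
  rw [hgen Z, hgen W]
  have hη := apply_genericPoint p V hV
  have hm := apply_genericPoint_mem p V hV
  refine ⟨⟨fun z hz => ?_, fun a ha b hb _ => ?_, fun w hw => ⟨genericPoint Z, rfl, ?_⟩⟩, fun w hw => ?_⟩
  · rw [Set.mem_singleton_iff] at hz ⊢; rw [hz, hη]
  · rw [Set.mem_singleton_iff] at ha hb; rw [ha, hb]
  · rw [Set.mem_singleton_iff] at hw; rw [hw]; exact hη
  rw [Set.mem_singleton_iff] at hw
  refine ⟨fun z z' hz hz' => eq_of_apply_eq p V (hz.symm ▸ hw ▸ hη ▸ hm) (hz.trans hz'.symm),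
    fun z hz => ⟨(p.residueFieldMap z).hom.injective, fun y => ?_⟩⟩
  obtain ⟨s, rfl⟩ := Scheme.residue_surjective Z z y
  obtain ⟨t, rfl⟩ := (stalkMap_bijective p V (z := z) (hz.symm ▸ hw ▸ hη ▸ hm)).2 s
  refine ⟨W.residue (p z) t, ?_⟩
  exact congr($(Scheme.residue_residueFieldMap p z) t)

/-- Local rings of a modification are bounded by those of the base. -/
theorem ringKrullDim_stalk_le [IsLocallyNoetherian W] [LocallyOfFiniteType p]
    (hV : (V : Set W).Nonempty) (d : ℕ) (hd : topologicalKrullDim W ≤ d) (z : Z) :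
    ringKrullDim (Z.presheaf.stalk z) ≤ d :=
  ((Flat55.FibreDimApps.ringKrullDim_stalk_le_of_isBirational p (isBirational p V hV) z).trans
    (Cyc.TorPD.ringKrullDim_stalk_le _)).trans hd

omit [IsIntegral Z] [IsIntegral W] in
/-- A modification through another one is one. -/
theorem isIso_restrict {X : Scheme.{u}} (g : Z ⟶ X) (f : X ⟶ W) (h : g ≫ f = p) [IsIso (f ∣_ V)] :
    IsIso (g ∣_ (f ⁻¹ᵁ V)) := by
  subst h
  have h1 : IsIso (g ∣_ (f ⁻¹ᵁ V) ≫ f ∣_ V) := morphismRestrict_comp g f V ▸ ‹IsIso ((g ≫ f) ∣_ V)›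
  exact IsIso.of_isIso_comp_right _ (f ∣_ V)

/-- Over non-closed points of a normal surface a modification has one-point fibres. -/
theorem subsingleton_fibre [IsLocallyNoetherian W] [IsProper p] (hV : (V : Set W).Nonempty)
    (hW : Pi1.IsNormalScheme W) (h2 : ∀ w : W, ringKrullDim (W.presheaf.stalk w) ≤ 2) {w : W}
    (hw : ¬ IsClosed ({w} : Set W)) : (p ⁻¹' {w}).Subsingleton := by
  obtain ⟨w', h, hne⟩ : ∃ w', w ⤳ w' ∧ w ≠ w' := by
    by_contra hno
    push Not at hno
    refine hw ?_
    have : closure ({w} : Set W) = {w} := Set.Subset.antisymm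
      (fun b hb => (hno b (specializes_iff_mem_closure.2 hb)).symm) subset_closure
    rw [← this]
    exact isClosed_closure
  exact ModelFibre.Centered.subsingleton_fibre p hW (apply_genericPoint p V hV)
    (stalkMap_bijective p V (apply_genericPoint_mem p V hV))
    (ModelFibre.Centered.ringKrullDim_stalk_le_one (h2 w') h hne)

end Groth.Agent.Lib.Amp36.Modif.Birat
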