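import Groth.Agent.H34.GlobGen
import Groth.Agent.Lib.QCoh.Pushforward
import Groth.Agent.Lib.Modules.Stalk
import Mathlib.AlgebraicGeometry.Morphisms.Flat
import Mathlib.AlgebraicGeometry.Morphisms.ClosedImmersion

/-!
# Global generation of the direct image of a closed subscheme of an affine base change
-/

set_option autoImplicit false
set_option linter.style.haveILetI false
universe u

open CategoryTheory Limits AlgebraicGeometry Opposite TopologicalSpace

namespace Groth.Agent.Lib.Amp36.Modif.AffinePushGG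

/-- A pushout of commutative rings is generated by the images of the two rings. -/
theorem subring_eq_top {R A B C : CommRingCat.{u}} {f : R ⟶ A} {g : R ⟶ B} {i : A ⟶ C} {j : B ⟶ C}
    (h : IsPushout f g i j) (S : Subring C) (hi : ∀ a, i a ∈ S) (hj : ∀ b, j b ∈ S) (c : C) : c ∈ S := by
  let i' : A ⟶ CommRingCat.of S := CommRingCat.ofHom (i.hom.codRestrict S hi)
  let j' : B ⟶ CommRingCat.of S := CommRingCat.ofHom (j.hom.codRestrict S hj)
  have hw : f ≫ i' = g ≫ j' := by
    refine CommRingCat.hom_ext (RingHom.ext fun r => Subtype.ext ?_)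
    exact ConcreteCategory.congr_hom h.w r
  have key : h.desc i' j' hw ≫ CommRingCat.ofHom S.subtype = 𝟙 C := by
    refine h.hom_ext ?_ ?_
    · rw [h.inl_desc_assoc, Category.comp_id]; rfl
    · rw [h.inr_desc_assoc, Category.comp_id]; rfl
  have e : ((h.desc i' j' hw c : S) : C) = c := ConcreteCategory.congr_hom key c
  rw [← e]
  exact (h.desc i' j' hw c).2

variable {X S T W : Scheme.{u}} [IsAffine S] [IsAffine T] (p : X ⟶ S) (b : T ⟶ S)

  (l : W ⟶ pullback p b) [IsClosedImmersion l]

/-- Sections over an affine are spanned by restrictions of global sections. -/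
theorem span_res {N : X.Opens} (hN : IsAffineOpen N) :
    letI := ((l ≫ pullback.fst p b).app N).hom.toAlgebra
    Submodule.span Γ(X, N) (Set.range
      (W.presheaf.map (homOfLE (le_top : (l ≫ pullback.fst p b) ⁻¹ᵁ N ≤ ⊤)).op).hom) = ⊤ := by
  letI := ((l ≫ pullback.fst p b).app N).hom.toAlgebra
  let res := (W.presheaf.map (homOfLE (le_top : (l ≫ pullback.fst p b) ⁻¹ᵁ N ≤ ⊤)).op).hom
  have hadj : Algebra.adjoin Γ(X, N) (Set.range res) = ⊤ := by
    haveI : IsAffineHom (pullback.fst p b) :=
      MorphismProperty.pullback_fst _ _ (isAffineHom_of_isAffine b)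
    have hP : IsAffineOpen (pullback.fst p b ⁻¹ᵁ N) := hN.preimage _
    have hpo := (isIso_pushoutSection_iff (IsPullback.of_hasPullback p b) (US := ⊤) (UT := ⊤)
      (UX := N) (UY := pullback.fst p b ⁻¹ᵁ N) le_top le_top (by simp)).1
      (isIso_pushoutSection_of_isAffineOpen (IsPullback.of_hasPullback p b) le_top le_top (by simp)
        (isAffineOpen_top S) (isAffineOpen_top T) hN)
    refine eq_top_iff.2 fun w _ => ?_
    obtain ⟨v, rfl⟩ := l.app_surjective _ hP w
    refine subring_eq_top hpo ((Algebra.adjoin Γ(X, N) (Set.range res)).toSubring.comap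
      (l.app (pullback.fst p b ⁻¹ᵁ N)).hom) (fun a => ?_) (fun c => ?_) v
    · rw [← Scheme.Hom.app_eq_appLE]
      exact Subalgebra.algebraMap_mem (Algebra.adjoin Γ(X, N) (Set.range res)) a
    · refine Algebra.subset_adjoin ⟨l.app ⊤ ((pullback.snd p b).app ⊤ c), ?_⟩
      exact (ConcreteCategory.congr_hom (l.naturality
        (homOfLE (le_top : pullback.fst p b ⁻¹ᵁ N ≤ ⊤)).op) ((pullback.snd p b).app ⊤ c)).symm
  refine eq_top_iff.2 fun w _ => ?_
  have h : w ∈ Submodule.span Γ(X, N) (Submonoid.closure (Set.range res) : Set _) := by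
    rw [← Algebra.adjoin_eq_span, hadj]
    exact Submodule.mem_top
  rwa [show Submonoid.closure (Set.range res) = MonoidHom.mrange res.toMonoidHom from
    Submonoid.closure_eq (MonoidHom.mrange res.toMonoidHom)] at h

set_option backward.isDefEq.respectTransparency.types false in
/-- The direct image of the structure sheaf is globally generated. -/
theorem gg_push :
    Curv2.IsGloballyGenerated ((Coh.push (l ≫ pullback.fst p b)).obj (Coh.structureModule W)) := by
  refine Groth.Agent.H34.GlobGen.gg_of_gl_eq_top fun x => eq_top_iff.2 fun y _ => ?_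
  let M := (Coh.push (l ≫ pullback.fst p b)).obj (Coh.structureModule W)
  obtain ⟨U, hxU, s, rfl⟩ := TopCat.Presheaf.exists_germ_eq M.presheaf y
  obtain ⟨N, hN, hxN, hNU⟩ := exists_isAffineOpen_mem_and_subset (U := U) (x := x) hxU
  rw [← TopCat.Presheaf.germ_res_apply M.presheaf (homOfLE hNU) x hxN]
  letI := ((l ≫ pullback.fst p b).app N).hom.toAlgebra
  suffices key : ∀ w : Γ(W, (l ≫ pullback.fst p b) ⁻¹ᵁ N),
      M.presheaf.germ N x hxN w ∈ Groth.Agent.H34.GlobGen.Gl M x from key _
  intro w
  have hw : w ∈ Submodule.span Γ(X, N) (Set.range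
      (W.presheaf.map (homOfLE (le_top : (l ≫ pullback.fst p b) ⁻¹ᵁ N ≤ ⊤)).op).hom) :=
    span_res p b l hN ▸ Submodule.mem_top
  induction hw using Submodule.span_induction with
  | mem w hw =>
    obtain ⟨t, rfl⟩ := hw
    exact Submodule.subset_span ⟨t, (TopCat.Presheaf.germ_res_apply M.presheaf (homOfLE le_top) x hxN t).symm⟩
  | zero =>
    exact (map_zero (M.presheaf.germ N x hxN).hom).symm ▸ zero_mem _
  | add a c _ _ ha hc =>
    exact (map_add (M.presheaf.germ N x hxN).hom a c).symm ▸ add_mem ha hc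
  | smul a c _ hc =>
    have e : M.presheaf.germ N x hxN (a • c) = X.presheaf.germ N x hxN a • M.presheaf.germ N x hxN c :=
      Groth.Agent.Lib.Modules.StalkModule.germ_smul (M := M) hxN a c
    rw [e]
    exact Submodule.smul_mem _ _ hc

end Groth.Agent.Lib.Amp36.Modif.AffinePushGG
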