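import Groth.Agent.S1649
import Groth.Agent.Lib.SchImage.Integral
import Groth.Agent.H22.Birational12426.Over
import Groth.Agent.S0566
import Groth.Agent.S9673
import Groth.Agent.S9674

/-!
# Normal closures of preimmersed integral normal schemes in proper schemes over a Nagata ring
-/

set_option autoImplicit false
set_option linter.style.haveILetI false
universe u

open CategoryTheory Limits AlgebraicGeometry

namespace Groth.Agent.Lib.Amp36.Modif.Extend

open Groth.Agent.Lib Groth.Agent.S1649

/-- The affine opens of a scheme of finite type over a Nagata ring are Nagata. -/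
theorem isNagata_sections {A : Type u} [CommRing A] (hN : CAlg.IsNagata A) {Z : Scheme.{u}}
    (q : Z ⟶ Spec (CommRingCat.of A)) [LocallyOfFiniteType q] :
    ∀ V : Z.affineOpens, CAlg.IsNagata Γ(Z, V.1) := by
  intro V
  have hle : V.1 ≤ q ⁻¹ᵁ ⊤ := le_top
  let := (q.appLE ⊤ V.1 hle).hom.toAlgebra
  have : Algebra.FiniteType Γ(Spec (CommRingCat.of A), ⊤) Γ(Z, V.1) :=
    q.finiteType_appLE (isAffineOpen_top _) V.2 hle
  have hA : CAlg.IsNagata Γ(Spec (CommRingCat.of A), ⊤) := by
    letI : Algebra A Γ(Spec (CommRingCat.of A), ⊤) :=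
      (Scheme.ΓSpecIso (CommRingCat.of A)).inv.hom.toAlgebra
    haveI : Algebra.FiniteType A Γ(Spec (CommRingCat.of A), ⊤) :=
      RingHom.FiniteType.of_surjective (Scheme.ΓSpecIso (CommRingCat.of A)).inv.hom
        (ConcreteCategory.bijective_of_isIso _).2
    exact Groth.Agent.S0566.result A hN _
  exact Groth.Agent.S0566.result _ hA _

set_option backward.isDefEq.respectTransparency.types false in
/-- An integral normal scheme preimmersed in a proper `A`-scheme, with the function field of `A`,
sits as a preimmersion in a proper normal modification of `Spec A` mapping to that scheme. -/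
theorem exists_normal_closure_finite {A : Type u} [CommRing A] [IsDomain A] (hN : CAlg.IsNagata A)
    {W Z : Scheme.{u}} [IsIntegral W] [IsNoetherian W] (hW : Pi1.IsNormalScheme W) (h : W ⟶ Z)
    [IsPreimmersion h] (qZ : Z ⟶ Spec (CommRingCat.of A)) [IsProper qZ] [IsSeparated (h ≫ qZ)]
    (hη : (h ≫ qZ) (genericPoint W) = genericPoint (Spec (CommRingCat.of A)))
    (hst : Function.Surjective ((h ≫ qZ).stalkMap (genericPoint W))) :
    ∃ (X : Scheme.{u}) (p : X ⟶ Spec (CommRingCat.of A)) (r : W ⟶ X) (ν : X ⟶ Z) (_ : IsIntegral X),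
      IsProper p ∧ Pi1.IsNormalScheme X ∧
      (∃ V : (Spec (CommRingCat.of A)).Opens, (V : Set (Spec (CommRingCat.of A))).Nonempty ∧
        IsIso (p ∣_ V)) ∧
      IsPreimmersion r ∧ r ≫ ν = h ∧ ν ≫ qZ = p ∧
        r (genericPoint W) = genericPoint X ∧ IsFinite ν := by
  haveI : QuasiCompact (h ≫ qZ) := inferInstance
  haveI : QuasiCompact h := QuasiCompact.of_comp h qZ
  let t : W ⟶ h.image := h.toImage
  let q₀ : h.image ⟶ Spec (CommRingCat.of A) := h.imageι ≫ qZ
  haveI : IsIntegral h.image := SchImage.Integral.isIntegral h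
  haveI : IsPreimmersion t := by
    haveI : IsPreimmersion (t ≫ h.imageι) := by
      rw [Scheme.Hom.toImage_imageι]; infer_instance
    exact preimm_of_comp t h.imageι
  haveI : IsProper q₀ := inferInstanceAs (IsProper (h.imageι ≫ qZ))
  have htq : t ≫ q₀ = h ≫ qZ := Scheme.Hom.toImage_imageι_assoc h qZ
  haveI : IsSeparated (t ≫ q₀) := by rw [htq]; infer_instance
  haveI : QuasiCompact (t ≫ q₀) := by rw [htq]; infer_instance
  haveI : QuasiCompact t := QuasiCompact.of_comp t q₀
  haveI : IsSeparated t := IsSeparated.of_comp t q₀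
  haveI : Finite ↑(irreducibleComponents ↥W) :=
    TopologicalSpace.NoetherianSpace.finite_irreducibleComponents.to_subtype
  haveI hfin : IsFinite t.fromNormalization :=
    Groth.Agent.S9674.result t (isNagata_sections hN q₀) (locallyFinite_of_finite _) fun x _ =>
      RingHom.FiniteType.essFiniteType (RingHom.FiniteType.of_surjective _
        (residueFieldMap_surjective t x (t.stalkMap_surjective x)))
  obtain ⟨hn, -, -, -⟩ := Groth.Agent.S9673.result t hW (locallyFinite_of_finite _)
  haveI : IsIntegral t.normalization := inferInstance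
  let p : t.normalization ⟶ Spec (CommRingCat.of A) := t.fromNormalization ≫ q₀
  haveI : IsPreimmersion t.toNormalization := by
    haveI : IsPreimmersion (t.toNormalization ≫ t.fromNormalization) := by
      rw [Scheme.Hom.toNormalization_fromNormalization]; infer_instance
    exact preimm_of_comp _ t.fromNormalization
  have hrp : t.toNormalization ≫ p = h ≫ qZ := by
    show t.toNormalization ≫ t.fromNormalization ≫ q₀ = _
    rw [Scheme.Hom.toNormalization_fromNormalization_assoc, htq]
  haveI : IsProper p := inferInstanceAs (IsProper (t.fromNormalization ≫ q₀))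
  have hrη : t.toNormalization (genericPoint W) = genericPoint t.normalization := by
    apply ((genericPoint_spec W).image t.toNormalization.continuous).eq
    rw [Set.image_univ, t.toNormalization.denseRange.closure_range]
    exact genericPoint_spec t.normalization
  refine ⟨t.normalization, p, t.toNormalization, t.fromNormalization ≫ h.imageι, inferInstance,
    inferInstance, hn, ?_, inferInstance, ?_, Category.assoc _ _ _, hrη, inferInstance⟩
  · have hpη : p (genericPoint t.normalization) = genericPoint (Spec (CommRingCat.of A)) := by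
      rw [← hrη, ← Scheme.Hom.comp_apply, hrp, hη]
    refine Groth.Agent.H22.Birational12426.exists_isIso_open p hpη ⟨(p.residueFieldMap _).hom.injective, ?_⟩
    rw [← hrη]
    refine residueFieldMap_surjective p _ ?_
    have hs : Function.Surjective ((t.toNormalization ≫ p).stalkMap (genericPoint W)) := by
      have key : ∀ (m : W ⟶ Spec (CommRingCat.of A)), Function.Surjective (m.stalkMap (genericPoint W)) →
          m = t.toNormalization ≫ p →
          Function.Surjective ((t.toNormalization ≫ p).stalkMap (genericPoint W)) := by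
        rintro _ h rfl; exact h
      exact key _ hst hrp.symm
    rw [Scheme.Hom.stalkMap_comp] at hs
    intro c
    obtain ⟨a, ha⟩ := hs (t.toNormalization.stalkMap (genericPoint W) c)
    exact ⟨a, injective_genericPoint_stalk t.toNormalization _ hrη ha⟩
  · rw [Scheme.Hom.toNormalization_fromNormalization_assoc]
    exact Scheme.Hom.toImage_imageι h

/-- An integral normal scheme preimmersed in a proper `A`-scheme, with the function field of `A`,
sits as a preimmersion in a proper normal modification of `Spec A` mapping to that scheme. -/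
theorem exists_normal_closure {A : Type u} [CommRing A] [IsDomain A] (hN : CAlg.IsNagata A)
    {W Z : Scheme.{u}} [IsIntegral W] [IsNoetherian W] (hW : Pi1.IsNormalScheme W) (h : W ⟶ Z)
    [IsPreimmersion h] (qZ : Z ⟶ Spec (CommRingCat.of A)) [IsProper qZ] [IsSeparated (h ≫ qZ)]
    (hη : (h ≫ qZ) (genericPoint W) = genericPoint (Spec (CommRingCat.of A)))
    (hst : Function.Surjective ((h ≫ qZ).stalkMap (genericPoint W))) :
    ∃ (X : Scheme.{u}) (p : X ⟶ Spec (CommRingCat.of A)) (r : W ⟶ X) (ν : X ⟶ Z) (_ : IsIntegral X),
      IsProper p ∧ Pi1.IsNormalScheme X ∧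
      (∃ V : (Spec (CommRingCat.of A)).Opens, (V : Set (Spec (CommRingCat.of A))).Nonempty ∧
        IsIso (p ∣_ V)) ∧
      IsPreimmersion r ∧ r ≫ ν = h ∧ ν ≫ qZ = p ∧
        r (genericPoint W) = genericPoint X := by
  obtain ⟨X, p, r, ν, i, h1, h2, h3, h4, h5, h6, h7, -⟩ :=
    exists_normal_closure_finite hN hW h qZ hη hst
  exact ⟨X, p, r, ν, i, h1, h2, h3, h4, h5, h6, h7⟩

end Groth.Agent.Lib.Amp36.Modif.Extend
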