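import Groth.Agent.Lib.ClSub.Sections
import Groth.Agent.Lib.ClSub.Basis
import Groth.Agent.Lib.Modules.Support
import Groth.Agent.Lib.Modules.Free
import Groth.Agent.Lib.CohDelta.IdealMul.DevExt
import Groth.Agent.Lib.Ample.QAffCrit
import Groth.Agent.Lib.Ideal.Comap
import Groth.Agent.H34.GlobGen
import Groth.Agent.Lib.QCoh.Closure
import Groth.Agent.Lib.ZarCoh.Affine
import Groth.Agent.Lib.CohDelta.Basic
import Groth.Prelude.Def_Curv2
import Groth.Prelude.Def_BlowUp2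

/-!
# Sections of powers of an invertible inverse image ideal
-/

set_option autoImplicit false
set_option linter.style.haveILetI false
universe u

open CategoryTheory CategoryTheory.Limits AlgebraicGeometry TopologicalSpace Opposite
open CategoryTheory.Abelian
open Groth.Agent.Lib.ZarCoh.Basic

namespace Groth.Agent.Lib.Amp36.Modif.FibrePow

open Groth.Agent.Lib

attribute [local instance] HasFiniteBiproducts.of_hasFiniteProducts

variable {A : Type u} [CommRing A] {X : Scheme.{u}} (f : X ⟶ Spec (CommRingCat.of A))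

/-- An element of the base as a function on an open. -/
noncomputable def ρ (U : X.Opens) : A →+* Γ(X, U) :=
  (X.presheaf.map (homOfLE (le_top : U ≤ ⊤)).op).hom.comp
    (f.appTop.hom.comp (Scheme.ΓSpecIso (CommRingCat.of A)).inv.hom)

theorem res_ρ {U V : X.Opens} (h : V ≤ U) (a : A) :
    X.presheaf.map (homOfLE h).op (ρ f U a) = ρ f V a := by
  show (X.presheaf.map (homOfLE le_top).op ≫ X.presheaf.map (homOfLE h).op) _ = _
  rw [← Functor.map_comp]
  rfl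

theorem ρ_eq_appLE (U : X.Opens) (a : A) :
    ρ f U a = f.appLE ⊤ U le_top ((Scheme.ΓSpecIso (CommRingCat.of A)).inv a) := rfl

variable (𝔞 : Ideal A)

/-- The powers of the inverse image ideal sheaf. -/
noncomputable abbrev I (n : ℕ) : X.IdealSheafData := ((Curv2.idealSheaf A 𝔞).comap f) ^ n

theorem ideal_I (n : ℕ) (U : X.affineOpens) : (I f 𝔞 n).ideal U = (𝔞 ^ n).map (ρ f U.1) := by
  simp only [Scheme.IdealSheafData.ideal_pow, Pi.pow_apply,
    Ideal.Comap.ideal_comap f _ ⟨⊤, isAffineOpen_top _⟩ U le_top, _root_.Ideal.map_pow]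
  congr 1
  rw [show (Curv2.idealSheaf A 𝔞).ideal ⟨⊤, isAffineOpen_top _⟩ =
    𝔞.map (Scheme.ΓSpecIso (CommRingCat.of A)).inv.hom from
      Scheme.IdealSheafData.equivOfIsAffine.right_inv _, _root_.Ideal.map_map]
  rfl

/-- The modules of the powers. -/
noncomputable abbrev N (n : ℕ) : X.Modules := ClSub.idealMod (I f 𝔞 n)

/-- The value of a section of a power. -/
noncomputable def val (n : ℕ) (U : X.Opens) (s : Γ(N f 𝔞 n, U)) : Γ(X, U) :=
  (ClSub.idealModι (I f 𝔞 n)).app U s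

theorem val_injective (n : ℕ) (U : X.Opens) : Function.Injective (val f 𝔞 n U) :=
  ClSub.Sections.idealModι_app_injective _ U

theorem val_mem (n : ℕ) (U : X.affineOpens) (s : Γ(N f 𝔞 n, U.1)) :
    val f 𝔞 n U.1 s ∈ (I f 𝔞 n).ideal U :=
  (ClSub.Sections.mem_range_idealModι_app_affine_iff _ U _).1 ⟨s, rfl⟩

theorem val_map {n : ℕ} {U V : X.Opens} (h : V ≤ U) (s : Γ(N f 𝔞 n, U)) :
    val f 𝔞 n V ((N f 𝔞 n).presheaf.map (homOfLE h).op s) =
      X.presheaf.map (homOfLE h).op (val f 𝔞 n U s) :=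
  ClSub.Basis.map_app (ClSub.idealModι (I f 𝔞 n)) h s

theorem val_smul (n : ℕ) (U : X.Opens) (r : Γ(X, U)) (s : Γ(N f 𝔞 n, U)) :
    val f 𝔞 n U (r • s) = r * val f 𝔞 n U s :=
  Scheme.Modules.Hom.app_smul (ClSub.idealModι (I f 𝔞 n)) r s

/-- Membership is local on affine opens. -/
theorem toSubscheme_eq_zero (J : X.IdealSheafData) (U : X.Opens) (b : Γ(X, U))
    (h : ∀ (V : X.affineOpens) (hV : V.1 ≤ U), X.presheaf.map (homOfLE hV).op b ∈ J.ideal V) :
    (ClSub.toSubscheme J).app U b = 0 := by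
  refine Modules.Support.eq_zero_of_germ_eq_zero _ fun x hx _ => ?_
  obtain ⟨V, hVU, hxV⟩ := ClSub.Basis.exists_affine_le hx
  rw [← ClSub.Basis.germ_map hVU hxV, ← ClSub.Basis.map_app (ClSub.toSubscheme J) hVU]
  obtain ⟨m, hm⟩ := (ClSub.Sections.mem_range_idealModι_app_affine_iff J V _).2 (h V hVU)
  rw [show ((ClSub.toSubscheme J).app V.1) ((Coh.structureModule X).presheaf.map (homOfLE hVU).op b) = 0
    from (congrArg ((ClSub.toSubscheme J).app V.1) hm.symm).trans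
      (ClSub.Sections.app_kernel_ι_app (ClSub.toSubscheme J) V.1 m)]
  exact map_zero _

theorem exists_val_eq (n : ℕ) (U : X.Opens) (b : Γ(X, U))
    (h : ∀ (V : X.affineOpens) (hV : V.1 ≤ U), X.presheaf.map (homOfLE hV).op b ∈ (I f 𝔞 n).ideal V) :
    ∃ s, val f 𝔞 n U s = b :=
  ClSub.Sections.exists_kernel_ι_app_eq (ClSub.toSubscheme (I f 𝔞 n)) U b (toSubscheme_eq_zero _ U b h)

theorem exists_global (n : ℕ) {a : A} (ha : a ∈ 𝔞 ^ n) : ∃ s, val f 𝔞 n ⊤ s = ρ f ⊤ a :=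
  exists_val_eq f 𝔞 n ⊤ _ fun V hV => by
    rw [res_ρ, ideal_I]
    exact _root_.Ideal.mem_map_of_mem _ ha

/-- The global section of a power given by an element. -/
noncomputable def glob (n : ℕ) {a : A} (ha : a ∈ 𝔞 ^ n) : Γ(N f 𝔞 n, ⊤) := (exists_global f 𝔞 n ha).choose

theorem val_glob (n : ℕ) {a : A} (ha : a ∈ 𝔞 ^ n) (U : X.Opens) :
    val f 𝔞 n U ((N f 𝔞 n).presheaf.map (homOfLE le_top).op (glob f 𝔞 n ha)) = ρ f U a := by
  rw [val_map, glob, (exists_global f 𝔞 n ha).choose_spec, res_ρ]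

variable {r : ℕ} (t : Fin r → A) (ht : _root_.Ideal.span (Set.range t) = 𝔞)

include ht in
theorem t_mem (i : Fin r) : t i ∈ 𝔞 := ht ▸ _root_.Ideal.subset_span ⟨i, rfl⟩

include ht in
theorem exists_mult (n : ℕ) (i : Fin r) :
    ∃ α : N f 𝔞 n ⟶ N f 𝔞 (n + 1), ∀ (U : X.Opens) (s : Γ(N f 𝔞 n, U)),
      val f 𝔞 (n + 1) U (α.app U s) = val f 𝔞 n U s * ρ f U (t i) := by
  let μ : Coh.structureModule X ⟶ Coh.structureModule X :=
    Modules.Free.unitHom (Coh.structureModule X) (ρ f ⊤ (t i) : Γ(X, ⊤))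
  have hμ : ∀ (U : X.Opens) (b : Γ(X, U)), μ.app U b = b * ρ f U (t i) := fun U b => by
    refine (Modules.Free.unitHom_app _ _ U b).trans ?_
    show b * X.presheaf.map (homOfLE le_top).op (ρ f ⊤ (t i)) = _
    rw [res_ρ]
    rfl
  have h0 : (ClSub.idealModι (I f 𝔞 n) ≫ μ) ≫ ClSub.toSubscheme (I f 𝔞 (n + 1)) = 0 := by
    refine Scheme.Modules.hom_ext _ _ fun U => ConcreteCategory.ext_apply fun s => ?_
    show (ClSub.toSubscheme (I f 𝔞 (n + 1))).app U (μ.app U (val f 𝔞 n U s)) = 0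
    rw [hμ]
    refine toSubscheme_eq_zero _ U _ fun V hV => ?_
    rw [map_mul, res_ρ, ← val_map]
    have h1 : (I f 𝔞 (n + 1)).ideal V = (I f 𝔞 n).ideal V * 𝔞.map (ρ f V.1) := by
      rw [ideal_I, ideal_I, pow_succ, _root_.Ideal.map_mul]
    rw [h1]
    exact _root_.Ideal.mul_mem_mul (val_mem f 𝔞 n V _) (_root_.Ideal.mem_map_of_mem _ (t_mem 𝔞 t ht i))
  refine ⟨kernel.lift (ClSub.toSubscheme (I f 𝔞 (n + 1))) (ClSub.idealModι (I f 𝔞 n) ≫ μ) h0,
    fun U s => ?_⟩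
  refine Eq.trans ?_ (hμ U (val f 𝔞 n U s))
  exact congrArg (fun φ : N f 𝔞 n ⟶ Coh.structureModule X => φ.app U s) (kernel.lift_ι _ _ h0)

/-- Multiplication by a generator. -/
noncomputable def α (n : ℕ) (i : Fin r) : N f 𝔞 n ⟶ N f 𝔞 (n + 1) := (exists_mult f 𝔞 t ht n i).choose

theorem val_α (n : ℕ) (i : Fin r) (U : X.Opens) (s : Γ(N f 𝔞 n, U)) :
    val f 𝔞 (n + 1) U ((α f 𝔞 t ht n i).app U s) = val f 𝔞 n U s * ρ f U (t i) :=
  (exists_mult f 𝔞 t ht n i).choose_spec U s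

/-- The tuples. -/
noncomputable abbrev T (r n : ℕ) : X.Modules := ⨁ fun _ : Fin r => N f 𝔞 n

/-- The combination map. -/
noncomputable def φ (n : ℕ) : T f 𝔞 r n ⟶ N f 𝔞 (n + 1) := biproduct.desc fun i => α f 𝔞 t ht n i

/-- The components of a tuple. -/
noncomputable def comp (n : ℕ) (U : X.Opens) (s : Γ(T f 𝔞 r n, U)) (j : Fin r) : Γ(N f 𝔞 n, U) :=
  (biproduct.π (fun _ : Fin r => N f 𝔞 n) j).app U s

/-- A tuple from components. -/
noncomputable def mk (n : ℕ) (U : X.Opens) (c : Fin r → Γ(N f 𝔞 n, U)) : Γ(T f 𝔞 r n, U) :=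
  ∑ i, CohDelta.IdealMul.Sec.appL (biproduct.ι (fun _ : Fin r => N f 𝔞 n) i) U (c i)

theorem comp_mk (n : ℕ) (U : X.Opens) (c : Fin r → Γ(N f 𝔞 n, U)) (j : Fin r) :
    comp f 𝔞 n U (mk f 𝔞 n U c) j = c j := by
  show CohDelta.IdealMul.Sec.appL (biproduct.π (fun _ : Fin r => N f 𝔞 n) j) U (mk f 𝔞 n U c) = c j
  rw [mk, map_sum, Finset.sum_eq_single j]
  · rw [← LinearMap.comp_apply, ← CohDelta.IdealMul.Sec.appL_comp, biproduct.ι_π_self]
    rfl
  · intro k _ hk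
    rw [← LinearMap.comp_apply, ← CohDelta.IdealMul.Sec.appL_comp, biproduct.ι_π_ne _ hk]
    rfl
  · simp

theorem mk_comp (n : ℕ) (U : X.Opens) (s : Γ(T f 𝔞 r n, U)) :
    mk f 𝔞 n U (comp f 𝔞 n U s) = s := by
  have e := CohDelta.IdealMul.DevExt.sum_sections Finset.univ
    (fun k => biproduct.π (fun _ : Fin r => N f 𝔞 n) k ≫ biproduct.ι (fun _ : Fin r => N f 𝔞 n) k) U s
  rw [biproduct.total] at e
  exact e.symm

theorem comp_ext (n : ℕ) (U : X.Opens) {s s' : Γ(T f 𝔞 r n, U)}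
    (h : ∀ j, val f 𝔞 n U (comp f 𝔞 n U s j) = val f 𝔞 n U (comp f 𝔞 n U s' j)) : s = s' := by
  rw [← mk_comp f 𝔞 n U s, ← mk_comp f 𝔞 n U s']
  exact congrArg _ (funext fun j => val_injective f 𝔞 n U (h j))

theorem val_φ (n : ℕ) (U : X.Opens) (s : Γ(T f 𝔞 r n, U)) :
    val f 𝔞 (n + 1) U ((φ f 𝔞 t ht n).app U s) =
      ∑ i, val f 𝔞 n U (comp f 𝔞 n U s i) * ρ f U (t i) := by
  have e : φ f 𝔞 t ht n = ∑ i, biproduct.π (fun _ : Fin r => N f 𝔞 n) i ≫ α f 𝔞 t ht n i :=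
    biproduct.desc_eq
  have e' := CohDelta.IdealMul.DevExt.sum_sections Finset.univ
    (fun i => biproduct.π (fun _ : Fin r => N f 𝔞 n) i ≫ α f 𝔞 t ht n i) U s
  rw [← e] at e'
  rw [show (φ f 𝔞 t ht n).app U s = _ from e']
  show (CohDelta.IdealMul.Sec.appL (ClSub.idealModι (I f 𝔞 (n + 1))) U) (∑ i, _) = _
  rw [map_sum]
  exact Finset.sum_congr rfl fun i _ => val_α f 𝔞 t ht n i U _

section Frame

variable [IsIntegral X] (hE : BlowUp.IsEffCartierIdeal ((Curv2.idealSheaf A 𝔞).comap f))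

include ht hE in
/-- Locally one of the generators generates the ideal. -/
theorem frame {x : X} {O : X.Opens} (hxO : x ∈ O) :
    ∃ U : X.affineOpens, U.1 ≤ O ∧ x ∈ U.1 ∧ ∃ k, ρ f U.1 (t k) ≠ 0 ∧
      ∀ i, ∃ c, ρ f U.1 (t i) = c * ρ f U.1 (t k) := by
  classical
  obtain ⟨U₀, hxU₀, f₀, hf₀, hI⟩ := hE x
  haveI : Nonempty U₀.1 := ⟨⟨x, hxU₀⟩⟩
  have h1 : ((Curv2.idealSheaf A 𝔞).comap f).ideal U₀ = _root_.Ideal.span (Set.range fun i => ρ f U₀.1 (t i)) := by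
    have h := ideal_I f 𝔞 1 U₀
    simp only [pow_one] at h
    rw [h, ← ht, _root_.Ideal.map_span, ← Set.range_comp]
    rfl
  have hf0mem : f₀ ∈ _root_.Ideal.span (Set.range fun i => ρ f U₀.1 (t i)) := by
    rw [← h1, hI]; exact _root_.Ideal.mem_span_singleton_self _
  obtain ⟨b, hb⟩ := (_root_.Ideal.mem_span_range_iff_exists_fun).1 hf0mem
  have hc : ∀ i, ∃ c, c * f₀ = ρ f U₀.1 (t i) := fun i => by
    refine _root_.Ideal.mem_span_singleton'.1 ?_
    rw [← hI, h1]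
    exact _root_.Ideal.subset_span ⟨i, rfl⟩
  choose c hc using hc
  have hone : ∑ i, b i * c i = 1 := by
    refine (mul_cancel_right_mem_nonZeroDivisors hf₀).1 ?_
    rw [Finset.sum_mul, one_mul]
    exact (Finset.sum_congr rfl fun i _ => by rw [mul_assoc, hc]).trans hb
  obtain ⟨k, hk⟩ : ∃ k, IsUnit (X.presheaf.germ U₀.1 x hxU₀ (c k)) := by
    by_contra hall
    push_neg at hall
    have h2 := congrArg (X.presheaf.germ U₀.1 x hxU₀).hom hone
    rw [map_sum, map_one] at h2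
    refine (IsLocalRing.maximalIdeal.isMaximal (X.presheaf.stalk x)).ne_top ((_root_.Ideal.eq_top_iff_one _).2 ?_)
    rw [← h2]
    exact Ideal.sum_mem _ fun i _ => by
      rw [map_mul]
      exact _root_.Ideal.mul_mem_left _ _ ((IsLocalRing.mem_maximalIdeal _).2 (hall i))
  have hxD : x ∈ O ⊓ X.basicOpen (c k) := ⟨hxO, (Scheme.mem_basicOpen X (c k) x hxU₀).2 hk⟩
  obtain ⟨U, hU, hxU⟩ := ClSub.Basis.exists_affine_le hxD
  haveI : Nonempty U.1 := ⟨⟨x, hxU⟩⟩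
  have hUD : U.1 ≤ X.basicOpen (c k) := hU.trans inf_le_right
  have hUU₀ : U.1 ≤ U₀.1 := hUD.trans (X.basicOpen_le (c k))
  let res := (X.presheaf.map (homOfLE hUU₀).op).hom
  have hu : IsUnit (res (c k)) := by
    have h1 := RingedSpace.isUnit_res_basicOpen X.toRingedSpace (c k)
    have h2 := h1.map (X.presheaf.map (homOfLE hUD).op).hom
    exact (congrArg (fun φ : Γ(X, U₀.1) ⟶ Γ(X, U.1) => IsUnit (φ (c k)))
      (X.presheaf.map_comp (homOfLE (X.basicOpen_le (c k))).op (homOfLE hUD).op)).mpr h2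
  refine ⟨U, hU.trans inf_le_left, hxU, k, ?_, fun i => ⟨res (c i) * ↑hu.unit⁻¹, ?_⟩⟩
  · rw [← res_ρ f hUU₀, ← hc k]
    show res (c k * f₀) ≠ 0
    rw [map_mul]
    refine mul_ne_zero hu.ne_zero fun h0 => nonZeroDivisors.ne_zero hf₀ ?_
    exact map_injective_of_isIntegral (X := X) (homOfLE hUU₀) (h0.trans (map_zero _).symm)
  · rw [← res_ρ f hUU₀ (t i), ← res_ρ f hUU₀ (t k), ← hc i, ← hc k]
    show res (c i * f₀) = res (c i) * ↑hu.unit⁻¹ * res (c k * f₀)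
    rw [map_mul, map_mul, mul_assoc, ← mul_assoc (↑hu.unit⁻¹ : Γ(X, U.1)), hu.val_inv_mul, one_mul]

include ht in
theorem ideal_eq_of_frame (n : ℕ) (U : X.affineOpens) {k : Fin r}
    (hk : ∀ i, ∃ c, ρ f U.1 (t i) = c * ρ f U.1 (t k)) :
    (I f 𝔞 n).ideal U = _root_.Ideal.span {ρ f U.1 (t k) ^ n} := by
  rw [ideal_I, _root_.Ideal.map_pow, ← _root_.Ideal.span_singleton_pow]
  congr 1
  refine le_antisymm ?_ (_root_.Ideal.span_le.2 (Set.singleton_subset_iff.2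
    (_root_.Ideal.mem_map_of_mem _ (t_mem 𝔞 t ht k))))
  rw [← ht, _root_.Ideal.map_span, _root_.Ideal.span_le]
  rintro _ ⟨_, ⟨i, rfl⟩, rfl⟩
  exact _root_.Ideal.mem_span_singleton'.2 (let ⟨c, hc⟩ := hk i; ⟨c, hc.symm⟩)

include ht hE in
/-- The powers are globally generated. -/
theorem gg_N (n : ℕ) : Curv2.IsGloballyGenerated (N f 𝔞 n) := by
  refine Groth.Agent.H34.GlobGen.gg_of_gl_eq_top fun x => eq_top_iff.2 fun y _ => ?_
  obtain ⟨O, hxO, s, rfl⟩ := TopCat.Presheaf.exists_germ_eq (N f 𝔞 n).presheaf y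
  obtain ⟨U, hUO, hxU, k, -, hk⟩ := frame f 𝔞 t ht hE hxO
  rw [← ClSub.Basis.germ_map hUO hxU]
  have hm := val_mem f 𝔞 n U ((N f 𝔞 n).presheaf.map (homOfLE hUO).op s)
  rw [ideal_eq_of_frame f 𝔞 t ht n U hk, _root_.Ideal.mem_span_singleton'] at hm
  obtain ⟨w, hw⟩ := hm
  have hg : (N f 𝔞 n).presheaf.map (homOfLE hUO).op s = w • (N f 𝔞 n).presheaf.map
      (homOfLE le_top).op (glob f 𝔞 n (_root_.Ideal.pow_mem_pow (t_mem 𝔞 t ht k) n)) := by
    apply val_injective f 𝔞 n U.1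
    rw [val_smul, val_glob, map_pow, hw]
  rw [hg, Modules.StalkModule.germ_smul, ClSub.Basis.germ_map le_top hxU]
  exact Submodule.smul_mem _ _ (Submodule.subset_span ⟨_, rfl⟩)

/-- The tuple with a standard Koszul relation. -/
noncomputable def koszul (n : ℕ) (k i : Fin r) : Γ(T f 𝔞 r (n + 1), ⊤) :=
  mk f 𝔞 (n + 1) ⊤ fun j =>
    (if j = i then glob f 𝔞 (n + 1) (_root_.Ideal.pow_mem_pow (t_mem 𝔞 t ht k) (n + 1)) else 0) -
    (if j = k then glob f 𝔞 (n + 1) (a := t k ^ n * t i)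
      (pow_succ 𝔞 n ▸ _root_.Ideal.mul_mem_mul (_root_.Ideal.pow_mem_pow (t_mem 𝔞 t ht k) n)
        (t_mem 𝔞 t ht i)) else 0)

theorem val_koszul (n : ℕ) (k i j : Fin r) (U : X.Opens) :
    val f 𝔞 (n + 1) U (comp f 𝔞 (n + 1) U
      ((T f 𝔞 r (n + 1)).presheaf.map (homOfLE le_top).op (koszul f 𝔞 t ht n k i)) j) =
    (if j = i then ρ f U (t k) ^ (n + 1) else 0) -
      (if j = k then ρ f U (t k) ^ n * ρ f U (t i) else 0) := by
  rw [show comp f 𝔞 (n + 1) U ((T f 𝔞 r (n + 1)).presheaf.map (homOfLE le_top).op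
      (koszul f 𝔞 t ht n k i)) j =
      (N f 𝔞 (n + 1)).presheaf.map (homOfLE le_top).op
        (comp f 𝔞 (n + 1) ⊤ (koszul f 𝔞 t ht n k i) j) from
    ClSub.Basis.map_app (biproduct.π (fun _ : Fin r => N f 𝔞 (n + 1)) j) le_top _, koszul, comp_mk]
  rw [map_sub]
  show CohDelta.IdealMul.Sec.appL (ClSub.idealModι (I f 𝔞 (n + 1))) U (_ - _) = _
  rw [map_sub]
  congr 1
  · split_ifs with h
    · exact (val_glob f 𝔞 (n + 1) _ U).trans (map_pow _ _ _)
    · rw [map_zero, map_zero]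
      rfl
  · split_ifs with h
    · exact (val_glob f 𝔞 (n + 1) _ U).trans (by rw [map_mul, map_pow])
    · rw [map_zero, map_zero]
      rfl

theorem φ_koszul (n : ℕ) (k i : Fin r) :
    (φ f 𝔞 t ht (n + 1)).app ⊤ (koszul f 𝔞 t ht n k i) = 0 := by
  apply val_injective f 𝔞 (n + 1 + 1) ⊤
  rw [val_φ]
  have h := fun j => val_koszul f 𝔞 t ht n k i j ⊤
  simp only [Modules.Free.map_top_top] at h
  simp only [h, sub_mul, ite_mul, zero_mul, Finset.sum_sub_distrib, Finset.sum_ite_eq',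
    Finset.mem_univ, if_true]
  rw [show val f 𝔞 (n + 1 + 1) ⊤ 0 = 0 from map_zero _]
  ring

include hE in
/-- The kernel of the combination map is globally generated. -/
theorem gg_kernel (n : ℕ) : Curv2.IsGloballyGenerated (kernel (φ f 𝔞 t ht (n + 1))) := by
  classical
  refine Groth.Agent.H34.GlobGen.gg_of_gl_eq_top fun x => eq_top_iff.2 fun y _ => ?_
  obtain ⟨O, hxO, s₀, rfl⟩ := TopCat.Presheaf.exists_germ_eq (kernel (φ f 𝔞 t ht (n + 1))).presheaf y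
  obtain ⟨U, hUO, hxU, k, hk0, hk⟩ := frame f 𝔞 t ht hE hxO
  haveI : Nonempty U.1 := ⟨⟨x, hxU⟩⟩
  rw [← ClSub.Basis.germ_map hUO hxU]
  generalize (kernel (φ f 𝔞 t ht (n + 1))).presheaf.map (homOfLE hUO).op s₀ = s
  choose c hc using hk
  let u := ρ f U.1 (t k)
  let a := fun j => val f 𝔞 (n + 1) U.1 (comp f 𝔞 (n + 1) U.1 ((kernel.ι (φ f 𝔞 t ht (n + 1))).app U.1 s) j)
  have hw : ∀ j, ∃ w, w * u ^ (n + 1) = a j := fun j => by
    refine _root_.Ideal.mem_span_singleton'.1 ?_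
    rw [← ideal_eq_of_frame f 𝔞 t ht (n + 1) U fun i => ⟨c i, hc i⟩]
    exact val_mem f 𝔞 (n + 1) U _
  choose w hw using hw
  have hrel : ∑ i, c i * a i = 0 := by
    refine (mul_right_cancel₀ hk0 ?_ : _)
    rw [zero_mul, Finset.sum_mul]
    have h := congrArg (val f 𝔞 (n + 1 + 1) U.1)
      (ClSub.Sections.app_kernel_ι_app (φ f 𝔞 t ht (n + 1)) U.1 s)
    rw [val_φ, show val f 𝔞 (n + 1 + 1) U.1 0 = 0 from map_zero _] at h
    exact (Finset.sum_congr rfl fun i _ => by rw [hc i]; ring).trans h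
  choose K hK using fun i => ClSub.Sections.exists_kernel_ι_app_eq (φ f 𝔞 t ht (n + 1)) ⊤
    (koszul f 𝔞 t ht n k i) (φ_koszul f 𝔞 t ht n k i)
  have hs : s = ∑ i, w i • (kernel (φ f 𝔞 t ht (n + 1))).presheaf.map (homOfLE le_top).op (K i) := by
    apply ClSub.Sections.kernel_ι_app_injective (φ f 𝔞 t ht (n + 1)) U.1
    refine comp_ext f 𝔞 (n + 1) U.1 fun j => ?_
    let L := ((CohDelta.IdealMul.Sec.appL (ClSub.idealModι (I f 𝔞 (n + 1))) U.1).comp
      (CohDelta.IdealMul.Sec.appL (biproduct.π (fun _ : Fin r => N f 𝔞 (n + 1)) j) U.1)).comp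
      (CohDelta.IdealMul.Sec.appL (kernel.ι (φ f 𝔞 t ht (n + 1))) U.1)
    show a j = L _
    rw [map_sum]
    have hL : ∀ i, L (w i • (kernel (φ f 𝔞 t ht (n + 1))).presheaf.map (homOfLE le_top).op (K i)) =
        w i * ((if j = i then u ^ (n + 1) else 0) - (if j = k then u ^ n * (c i * u) else 0)) := by
      intro i
      refine (L.map_smul (w i) _).trans (congrArg (w i * ·) ?_)
      refine Eq.trans ?_ ((val_koszul f 𝔞 t ht n k i j U.1).trans (by rw [hc i]))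
      show val f 𝔞 (n + 1) U.1 (comp f 𝔞 (n + 1) U.1 ((kernel.ι (φ f 𝔞 t ht (n + 1))).app U.1
        ((kernel (φ f 𝔞 t ht (n + 1))).presheaf.map (homOfLE le_top).op (K i))) j) = _
      rw [ClSub.Basis.map_app (kernel.ι (φ f 𝔞 t ht (n + 1))) le_top, hK]
    have hfin : (a j : Γ(X, U.1)) = ∑ i, w i *
        ((if j = i then u ^ (n + 1) else 0) - (if j = k then u ^ n * (c i * u) else 0)) := by
      simp only [mul_sub, mul_ite, mul_zero, Finset.sum_sub_distrib, Finset.sum_ite_eq,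
        Finset.mem_univ, if_true, hw]
      split_ifs with hj
      · have h0 : ∑ i, w i * (u ^ n * (c i * u)) = 0 := by
          refine Eq.trans (Finset.sum_congr rfl fun i _ => ?_) hrel
          rw [← hw i]; ring
        rw [h0, sub_zero]
      · simp
    exact hfin.trans (Finset.sum_congr rfl fun i _ => (hL i).symm)
  have key : (kernel (φ f 𝔞 t ht (n + 1))).presheaf.germ U.1 x hxU s =
      ∑ i, X.presheaf.germ U.1 x hxU (w i) •
        (kernel (φ f 𝔞 t ht (n + 1))).presheaf.germ ⊤ x trivial (K i) := by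
    conv_lhs => rw [hs]
    rw [map_sum]
    exact Finset.sum_congr rfl fun i _ => by
      rw [Modules.StalkModule.germ_smul, ClSub.Basis.germ_map le_top hxU]
  rw [key]
  exact Submodule.sum_mem _ fun i _ => Submodule.smul_mem _ _ (Submodule.subset_span ⟨K i, rfl⟩)

include hE in
theorem epi_φ (n : ℕ) : Epi (φ f 𝔞 t ht n) := by
  rw [Modules.Stalk.epi_iff_stalk_surjective]
  intro x
  refine ClSub.Basis.stalk_surjective_of_basis _ x fun O hxO => ?_
  obtain ⟨U, hUO, hxU, k, -, hk⟩ := frame f 𝔞 t ht hE hxO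
  refine ⟨U.1, hUO, hxU, fun y => ?_⟩
  have hy := val_mem f 𝔞 (n + 1) U y
  rw [ideal_eq_of_frame f 𝔞 t ht (n + 1) U hk, _root_.Ideal.mem_span_singleton'] at hy
  obtain ⟨w, hw⟩ := hy
  refine ⟨mk f 𝔞 n U.1 fun j => if j = k then w • (N f 𝔞 n).presheaf.map (homOfLE le_top).op
    (glob f 𝔞 n (_root_.Ideal.pow_mem_pow (t_mem 𝔞 t ht k) n)) else 0, ?_⟩
  apply val_injective f 𝔞 (n + 1) U.1
  rw [val_φ, Finset.sum_eq_single k, comp_mk, if_pos rfl, val_smul, val_glob, map_pow, ← hw]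
  · ring
  · intro j _ hj
    rw [comp_mk, if_neg hj, show val f 𝔞 n U.1 0 = 0 from map_zero _, zero_mul]
  · simp

include ht hE in
/-- Global sections of a power are combinations of the generators and global sections of the previous
one, if globally generated quasi-coherent modules have no `H¹`. -/
theorem exists_combination
    (hH : ∀ F : X.Modules, F.IsQuasicoherent → Curv2.IsGloballyGenerated F →
      Subsingleton (Coh.HH X F 1))
    (n : ℕ) (s : Γ(N f 𝔞 (n + 1 + 1), ⊤)) :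
    ∃ c : Fin r → Γ(N f 𝔞 (n + 1), ⊤),
      val f 𝔞 (n + 1 + 1) ⊤ s = ∑ i, val f 𝔞 (n + 1) ⊤ (c i) * ρ f ⊤ (t i) := by
  haveI := epi_φ f 𝔞 t ht hE (n + 1)
  haveI : ∀ m, (N f 𝔞 m).IsQuasicoherent := fun m => Ample.QAffCrit.isQCoh_idealMod _
  haveI : (T f 𝔞 r (n + 1)).IsQuasicoherent :=
    QCoh.Closure.isQCoh_of_isColimit (biproduct.isColimit _) fun _ =>
      (inferInstance : (N f 𝔞 (n + 1)).IsQuasicoherent)
  haveI hqK : (kernel (φ f 𝔞 t ht (n + 1))).IsQuasicoherent := QCoh.Closure.isQCoh_kernel _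
  let S := ShortComplex.mk (kernel.ι (φ f 𝔞 t ht (n + 1))) (φ f 𝔞 t ht (n + 1)) (kernel.condition _)
  have hS : S.ShortExact :=
    { exact := S.exact_of_f_is_kernel (kernelIsKernel (φ f 𝔞 t ht (n + 1)))
      mono_f := inferInstanceAs (Mono (kernel.ι (φ f 𝔞 t ht (n + 1))))
      epi_g := inferInstanceAs (Epi (φ f 𝔞 t ht (n + 1))) }
  haveI h1 : Subsingleton (Ext.{u} (Zs.obj (⊤ : X.Opens)) (Coh.toAb S.X₁) 1) :=
    haveI := hH _ hqK (gg_kernel f 𝔞 t ht hE n)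
    (ZarCoh.Compare.hTop (Coh.toAb (kernel (φ f 𝔞 t ht (n + 1)))) 1).symm.toEquiv.subsingleton
  let k := (homEquiv ⊤ (Coh.toAb S.X₃)).symm s
  obtain ⟨i, hi⟩ := Ext.covariant_sequence_exact₃.{u} (Zs.obj (⊤ : X.Opens))
    (CohDelta.Basic.abS_shortExact hS) (Ext.mk₀ k) (n₁ := 1) rfl (h1.elim _ _)
  obtain ⟨i, rfl⟩ := (Ext.mk₀_bijective _ _).2 i
  rw [Ext.mk₀_comp_mk₀] at hi
  have e : (φ f 𝔞 t ht (n + 1)).app ⊤ (homEquiv ⊤ (Coh.toAb S.X₂) i) = s :=
    (homEquiv_comp i (CohDelta.Basic.abMap S.g)).symm.trans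
      ((congrArg (homEquiv ⊤ (Coh.toAb S.X₃)) ((Ext.mk₀_bijective _ _).1 hi)).trans
        (Equiv.apply_symm_apply _ _))
  exact ⟨comp f 𝔞 (n + 1) ⊤ (homEquiv ⊤ (Coh.toAb S.X₂) i), by rw [← e, val_φ]⟩

end Frame

end Groth.Agent.Lib.Amp36.Modif.FibrePow
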