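import Groth.Agent.Lib.Amp36.Modif.FibrePow

/-!
# Gluing sections modulo a submodule with vanishing `H¹`
-/

set_option autoImplicit false
set_option linter.style.haveILetI false
universe u

open CategoryTheory CategoryTheory.Limits AlgebraicGeometry TopologicalSpace Opposite
open CategoryTheory.Abelian
open Groth.Agent.Lib.ZarCoh.Basic

namespace Groth.Agent.Lib.Amp36.Modif.Glue

open Groth.Agent.Lib

variable {X : Scheme.{u}} {J N : X.Modules}

theorem exists_app_eq (j : J ⟶ N) [Mono j] (U : X.Opens) (x : Γ(N, U))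
    (hx : (cokernel.π j).app U x = 0) : ∃ y, j.app U y = x := by
  obtain ⟨k, hk⟩ := ClSub.Sections.exists_kernel_ι_app_eq (cokernel.π j) U x hx
  refine ⟨(inv (Abelian.factorThruImage j)).app U k, ?_⟩
  have h : inv (Abelian.factorThruImage j) ≫ j = kernel.ι (cokernel.π j) := by
    rw [IsIso.inv_comp_eq, Abelian.image.fac j]
  rw [← hk, ← h, Scheme.Modules.Hom.comp_app]
  rfl

theorem app_eq_zero (j : J ⟶ N) (U : X.Opens) (y : Γ(J, U)) :
    (cokernel.π j).app U (j.app U y) = 0 := by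
  have h : (j ≫ cokernel.π j).app U = (0 : J ⟶ cokernel j).app U := by rw [cokernel.condition]
  rw [Scheme.Modules.Hom.comp_app, Scheme.Modules.Hom.zero_app] at h
  exact congr($h y)

/-- Local sections agreeing modulo a submodule with vanishing `H¹` come from a global section. -/
theorem exists_lift (j : J ⟶ N) [Mono j] (h1 : Subsingleton (Coh.HH X J 1))
    {ι : Type u} (W : ι → X.Opens) (hW : ⊤ ≤ iSup W) (s : ∀ i, Γ(N, W i))
    (hs : ∀ i k, ∃ y : Γ(J, W i ⊓ W k), j.app _ y =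
      N.presheaf.map (homOfLE (inf_le_left : W i ⊓ W k ≤ W i)).op (s i) -
        N.presheaf.map (homOfLE (inf_le_right : W i ⊓ W k ≤ W k)).op (s k)) :
    ∃ g : Γ(N, ⊤), ∀ i, ∃ y : Γ(J, W i), j.app _ y =
      N.presheaf.map (homOfLE le_top).op g - s i := by
  obtain ⟨q, hq, -⟩ := TopCat.Sheaf.existsUnique_gluing'
    ⟨(cokernel j).presheaf, (cokernel j).isSheaf⟩ W ⊤ (fun i => homOfLE le_top) hW
    (fun i => (cokernel.π j).app (W i) (s i)) (fun i k => by
      obtain ⟨y, hy⟩ := hs i k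
      show (cokernel j).presheaf.map (homOfLE inf_le_left).op _ =
        (cokernel j).presheaf.map (homOfLE inf_le_right).op _
      rw [← ClSub.Basis.map_app (cokernel.π j) inf_le_left,
        ← ClSub.Basis.map_app (cokernel.π j) inf_le_right, ← sub_eq_zero, ← map_sub, ← hy]
      exact app_eq_zero j _ y)
  let S := ShortComplex.mk j (cokernel.π j) (cokernel.condition j)
  have hS : S.ShortExact :=
    { exact := S.exact_of_g_is_cokernel (cokernelIsCokernel j)
      mono_f := inferInstanceAs (Mono j)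
      epi_g := inferInstanceAs (Epi (cokernel.π j)) }
  haveI h1' : Subsingleton (Ext.{u} (Zs.obj (⊤ : X.Opens)) (Coh.toAb S.X₁) 1) :=
    haveI := h1
    (ZarCoh.Compare.hTop (Coh.toAb J) 1).symm.toEquiv.subsingleton
  let k := (homEquiv ⊤ (Coh.toAb S.X₃)).symm q
  obtain ⟨i, hi⟩ := Ext.covariant_sequence_exact₃.{u} (Zs.obj (⊤ : X.Opens))
    (CohDelta.Basic.abS_shortExact hS) (Ext.mk₀ k) (n₁ := 1) rfl (h1'.elim _ _)
  obtain ⟨i, rfl⟩ := (Ext.mk₀_bijective _ _).2 i
  rw [Ext.mk₀_comp_mk₀] at hi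
  have e : (cokernel.π j).app ⊤ (homEquiv ⊤ (Coh.toAb S.X₂) i) = q :=
    (homEquiv_comp i (CohDelta.Basic.abMap S.g)).symm.trans
      ((congrArg (homEquiv ⊤ (Coh.toAb S.X₃)) ((Ext.mk₀_bijective _ _).1 hi)).trans
        (Equiv.apply_symm_apply _ _))
  refine ⟨homEquiv ⊤ (Coh.toAb S.X₂) i, fun l => exists_app_eq j _ _ ?_⟩
  rw [map_sub, ClSub.Basis.map_app (cokernel.π j) (le_top : W l ≤ ⊤), e, sub_eq_zero]
  exact hq l

end Groth.Agent.Lib.Amp36.Modif.Glue
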