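import Groth.Agent.Lib.CohDelta.Syzygy
import Groth.Agent.Lib.CohDelta.BC.Lift
import Groth.Agent.Lib.ZarCoh.Affine
import Groth.Agent.Lib.ZarCoh.Morph
import Groth.Agent.Lib.Curves.LES
import Groth.Agent.Lib.QCoh.Pushforward
import Groth.Agent.Lib.Snapper.Twist
import Groth.Agent.Lib.Modules.Stalk

/-!
# Vanishing of `H¹` over affine opens when the first direct image vanishes
-/

set_option autoImplicit false
set_option linter.style.haveILetI false
universe u

open CategoryTheory Limits AlgebraicGeometry TopologicalSpace Opposite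
open CategoryTheory.Abelian
open Groth.Agent.Lib.ZarCoh.Basic Groth.Agent.Lib.CohDelta.Basic

namespace Groth.Agent.Lib.Amp36.Modif.R1Zero

open Groth.Agent.Lib

variable {X' X : Scheme.{u}} (g : X' ⟶ X) [HasInjectiveResolutions X'.Modules]
  [QuasiCompact g] [QuasiSeparated g]

set_option backward.isDefEq.respectTransparency.types false in
/-- If `R¹g_*M` vanishes then `H¹(g⁻¹V, M) = 0` for every affine open `V`. -/
theorem subsingleton_HU (M : X'.Modules) [M.IsQuasicoherent]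
    (hR : ∀ x : X, Subsingleton (((Coh.Rpush g 1).obj M).presheaf.stalk x))
    {V : X.Opens} (hV : IsAffineOpen V) :
    Subsingleton (CohTop.HU (Coh.toAb M) 1 (g ⁻¹ᵁ V)) := by
  let I := injectiveResolution M
  let G := Scheme.Modules.pushforward g
  haveI := CohDelta.BC.Lift.pushforward_preservesFiniteLimits g
  let Z1 := CohDelta.Syzygy.Z I (0 + 1)
  let S := CohDelta.Syzygy.seq I 0
  have hS : S.ShortExact := CohDelta.Syzygy.seq_shortExact I 0
  obtain ⟨e⟩ := CohDelta.Syzygy.nonempty_rightDerived_iso I g 0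
  have hz : IsZero (CohDelta.Syzygy.R I g 0) := by
    refine IsZero.of_iso ?_ e.symm
    exact Modules.Stalk.isZero_iff_stalk_subsingleton.2 hR
  haveI : Epi (G.map S.g) := by
    refine Abelian.epi_of_cokernel_π_eq_zero _ ?_
    exact hz.eq_of_tgt _ _
  have hG : (S.map G).ShortExact :=
    { exact := by
        haveI : Mono S.f := hS.mono_f
        exact ShortComplex.exact_of_f_is_kernel _ (isLimitForkMapOfIsLimit' G S.zero hS.fIsKernel)
      mono_f := by
        haveI : Mono S.f := hS.mono_f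
        exact G.map_mono _
      epi_g := ‹Epi (G.map S.g)› }
  haveI : (G.obj M).IsQuasicoherent := QCoh.Pushforward.isQCoh_pushforward g (M := M)
  haveI : (G.obj (CohDelta.Syzygy.Z I 0)).IsQuasicoherent :=
    (SheafOfModules.isQuasicoherent (R := X.ringCatSheaf)).prop_of_iso
      (G.mapIso (CohDelta.Syzygy.augIso I)) inferInstance
  haveI h0 : Subsingleton (CohTop.HU (Coh.toAb (G.obj (CohDelta.Syzygy.Z I 0))) 1 V) :=
    ZarCoh.Affine.HU_subsingleton _ hV 0
  have key : ∀ y : Ext.{u} (Zs.obj (g ⁻¹ᵁ V)) (Coh.toAb (CohDelta.Syzygy.Z I 0)) 1, y = 0 := by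
    intro y
    obtain ⟨s, rfl⟩ := CohDelta.Syzygy.c_surjective I (g ⁻¹ᵁ V) 1 y
    refine (CohDelta.Syzygy.c_eq_zero_iff I (g ⁻¹ᵁ V) 0 s).2 ?_
    let k := (homEquiv V (Coh.toAb (G.obj Z1))).symm s
    obtain ⟨i, hi⟩ := Ext.covariant_sequence_exact₃.{u} (Zs.obj V) (abS_shortExact hG) (Ext.mk₀ k)
      (n₁ := 1) rfl (h0.elim _ _)
    obtain ⟨i, rfl⟩ := (Ext.mk₀_bijective _ _).2 i
    rw [Ext.mk₀_comp_mk₀] at hi
    refine ⟨homEquiv V (Coh.toAb (G.obj (I.cocomplex.X 0))) i, ?_⟩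
    exact (homEquiv_comp i (abMap (G.map S.g))).symm.trans
      ((congrArg (homEquiv V (Coh.toAb (G.obj Z1))) ((Ext.mk₀_bijective _ _).1 hi)).trans
        (Equiv.apply_symm_apply _ _))
  haveI : Subsingleton (CohTop.HU (Coh.toAb (CohDelta.Syzygy.Z I 0)) 1 (g ⁻¹ᵁ V)) :=
    subsingleton_of_forall_eq 0 key
  let ab := (SheafOfModules.toSheaf X'.ringCatSheaf).map (CohDelta.Syzygy.augIso I).hom
  refine @Function.Injective.subsingleton _ _ (fun y : Ext.{u} (Zs.obj (g ⁻¹ᵁ V)) (Coh.toAb M) 1 =>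
    (y.comp (Ext.mk₀ ab) (add_zero 1) : CohTop.HU (Coh.toAb (CohDelta.Syzygy.Z I 0)) 1 (g ⁻¹ᵁ V))) ?_ ‹_›
  intro y y' h
  dsimp only at h
  have h' := congrArg (fun z => Ext.comp z (Ext.mk₀ ((SheafOfModules.toSheaf X'.ringCatSheaf).map
    (CohDelta.Syzygy.augIso I).inv)) (add_zero 1)) h
  have e := ((SheafOfModules.toSheaf X'.ringCatSheaf).mapIso (CohDelta.Syzygy.augIso I)).hom_inv_id
  simp only [Functor.mapIso_hom, Functor.mapIso_inv] at e
  simp only [ab, Ext.comp_assoc_of_second_deg_zero, Ext.mk₀_comp_mk₀, e, Ext.comp_mk₀_id] at h'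
  exact h'

/-- The scheme form. -/
theorem subsingleton_H1 (hR : ∀ x : X, Subsingleton
      (((Coh.Rpush g 1).obj (Coh.structureModule X')).presheaf.stalk x))
    {V : X.Opens} (hV : IsAffineOpen V) :
    Subsingleton (Coh.HH (g ⁻¹ᵁ V : Scheme.{u}) (Coh.structureModule _) 1) := by
  haveI : (Coh.structureModule X').IsQuasicoherent := TensorMod.QCohInv.isQCoh_structureModule _
  let ε : (Coh.structureModule X').restrict (g ⁻¹ᵁ V).ι ≅ Coh.structureModule (g ⁻¹ᵁ V : Scheme.{u}) :=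
    (Scheme.Modules.restrictFunctorIsoPullback (g ⁻¹ᵁ V).ι).app _ ≪≫
      PicLoc.pullbackStructureIso (g ⁻¹ᵁ V).ι
  have h := subsingleton_HU g (Coh.structureModule X') hR hV
  haveI : Subsingleton (CohTop.HU (Coh.toAb (Coh.structureModule X')) 1 ((g ⁻¹ᵁ V).ι ''ᵁ ⊤)) := by
    rwa [Scheme.Hom.image_top_eq_opensRange, Scheme.Opens.opensRange_ι]
  haveI : Subsingleton (Coh.HH _ ((Coh.structureModule X').restrict (g ⁻¹ᵁ V).ι) 1) :=
    (ZarCoh.Morph.openEquiv (g ⁻¹ᵁ V).ι (Coh.structureModule X') 1).toEquiv.subsingleton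
  letI : (g ⁻¹ᵁ V : Scheme.{u}).Over (Spec (CommRingCat.of Γ(X, V))) := ⟨(g ∣_ V) ≫ hV.isoSpec.hom⟩
  exact (Curves.LES.isoK Γ(X, V) ε 1).toEquiv.symm.subsingleton

end Groth.Agent.Lib.Amp36.Modif.R1Zero
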