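import Groth.Agent.Lib.CohDelta.Syzygy
import Groth.Agent.Lib.CohDelta.BC.Lift
import Groth.Agent.Lib.ZarCoh.PushH
import Groth.Agent.Lib.ZarCoh.Morph
import Groth.Agent.Lib.ZarCoh.Linear
import Groth.Agent.Lib.Curves.LES
import Mathlib.RingTheory.Length

/-!
# Lengths in the low degree exact sequence of a direct image
-/

set_option autoImplicit false
set_option linter.style.haveILetI false
universe u

open CategoryTheory Limits AlgebraicGeometry TopologicalSpace

namespace Groth.Agent.Lib.Amp36.Modif.LerayLow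

open Groth.Agent.Lib

section Algebra

variable {A : Type*} [CommRing A] {I K P Q H H' : Type*} [AddCommGroup I] [Module A I] [AddCommGroup K]
  [Module A K] [AddCommGroup P] [Module A P] [AddCommGroup Q] [Module A Q] [AddCommGroup H] [Module A H]
  [AddCommGroup H'] [Module A H'] (a : I →ₗ[A] K) (i : K →ₗ[A] P) (q : P →ₗ[A] Q) (d : K →ₗ[A] H)
  (d' : P →ₗ[A] H')

theorem length_eq (hi : Function.Injective i) (hq : Function.Surjective q) (hiq : Function.Exact i q)
    (hd : Function.Surjective d) (had : Function.Exact a d) (hd' : Function.Surjective d')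
    (hd'' : Function.Exact (i ∘ₗ a) d') :
    Module.length A H' = Module.length A H + Module.length A Q := by
  have h1 : LinearMap.ker d ≤ LinearMap.ker (d' ∘ₗ i) := fun k hk => by
    obtain ⟨w, rfl⟩ := (had k).1 hk
    exact (hd'' (i (a w))).2 ⟨w, rfl⟩
  have h2 : LinearMap.ker d' ≤ LinearMap.ker q := fun p hp => by
    obtain ⟨w, rfl⟩ := (hd'' p).1 hp
    exact (hiq _).2 ⟨a w, rfl⟩
  let φ : H →ₗ[A] H' := (LinearMap.ker d).liftQ (d' ∘ₗ i) h1 ∘ₗ
    (d.quotKerEquivOfSurjective hd).symm.toLinearMap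
  let ψ : H' →ₗ[A] Q := (LinearMap.ker d').liftQ q h2 ∘ₗ
    (d'.quotKerEquivOfSurjective hd').symm.toLinearMap
  have hφ : ∀ k, φ (d k) = d' (i k) := fun k => by
    have : (d.quotKerEquivOfSurjective hd).symm (d k) = Submodule.Quotient.mk k :=
      (LinearEquiv.symm_apply_eq _).2 rfl
    simp [φ, this]
  have hψ : ∀ p, ψ (d' p) = q p := fun p => by
    have : (d'.quotKerEquivOfSurjective hd').symm (d' p) = Submodule.Quotient.mk p :=
      (LinearEquiv.symm_apply_eq _).2 rfl
    simp [ψ, this]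
  refine Module.length_eq_add_of_exact φ ψ ((injective_iff_map_eq_zero φ).2 fun x hx => ?_)
    (fun y => ?_) (fun y => ?_)
  · obtain ⟨k, rfl⟩ := hd x
    rw [hφ] at hx
    obtain ⟨w, hw⟩ := (hd'' _).1 hx
    obtain rfl : a w = k := hi hw
    exact (had _).2 ⟨w, rfl⟩
  · obtain ⟨p, rfl⟩ := hq y
    exact ⟨d' p, hψ p⟩
  · obtain ⟨p, rfl⟩ := hd' y
    rw [hψ]
    refine ⟨fun h => ?_, ?_⟩
    · obtain ⟨k, rfl⟩ := (hiq p).1 h
      exact ⟨d k, hφ k⟩
    · rintro ⟨x, hx⟩
      obtain ⟨k, rfl⟩ := hd x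
      rw [hφ] at hx
      rw [← hψ, ← hx, hψ]
      exact (hiq _).2 ⟨k, rfl⟩

end Algebra

variable (A : Type u) [CommRing A] {X' X : Scheme.{u}} [X'.Over (Spec (CommRingCat.of A))]
  [X.Over (Spec (CommRingCat.of A))] (g : X' ⟶ X)
  (hg : g ≫ (X ↘ Spec (CommRingCat.of A)) = X' ↘ Spec (CommRingCat.of A))

/-- The comparison map is linear over the base ring. -/
noncomputable def pushL (N : X'.Modules) (n : ℕ) :
    Coh.HH X ((Coh.push g).obj N) n →ₗ[A] Coh.HH X' N n :=
  { toFun := ZarCoh.PushH.pushH g.base (Coh.toAb N) n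
    map_add' := fun a b => map_add _ a b
    map_smul' := fun a x => ZarCoh.Morph.pushH_smul g _ n _ _
      (ZarCoh.Linear.toGlobal_comp g hg a) x }

theorem pushL_natural {M N : X'.Modules} (φ : M ⟶ N) (n : ℕ)
    (x : Coh.HH X ((Coh.push g).obj M) n) :
    pushL A g hg N n (Curves.LES.mapK A ((Coh.push g).map φ) n x) =
      Curves.LES.mapK A φ n (pushL A g hg M n x) :=
  ZarCoh.PushH.pushH_natural g.base ((SheafOfModules.toSheaf X'.ringCatSheaf).map φ) n x

theorem pushL_zero_bijective (N : X'.Modules) : Function.Bijective (pushL A g hg N 0) :=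
  ZarCoh.PushH.pushH_bijective_of g.base (Coh.toAb N) 0
    (ZarCoh.Push.bijective_and_injective (B := Set.univ) ⊤
      (Opens.isBasis_iff_nbhd.2 fun {U _} hx ↦ ⟨U, Set.mem_univ _, hx, le_rfl⟩) 0 (Coh.toAb N)
      (ZarCoh.Push.van_zero _)).1

theorem pushL_one_injective (N : X'.Modules) : Function.Injective (pushL A g hg N 1) :=
  ((ZarCoh.Compare.hTop (Coh.toAb N) 1).symm.injective.comp
    (((ZarCoh.Push.bijective_and_injective (f := g.base) (B := Set.univ) ⊤
      (Opens.isBasis_iff_nbhd.2 fun {U _} hx ↦ ⟨U, Set.mem_univ _, hx, le_rfl⟩)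
      0 (Coh.toAb N) (ZarCoh.Push.van_zero _)).2).comp
    (ZarCoh.Compare.hTop ((CohTop.push g.base).obj (Coh.toAb N)) 1).injective))

variable [HasInjectiveResolutions X'.Modules]

include hg in
/-- `length H¹(X', F) = length H¹(X, g_*F) + length H⁰(X, R¹g_*F)` when `H²(X, g_*F) = 0`. -/
theorem length_H1 (F : X'.Modules) (h2 : Subsingleton (Coh.HH X ((Coh.push g).obj F) 2)) :
    Module.length A (Coh.HH X' F 1) =
      Module.length A (Coh.HH X ((Coh.push g).obj F) 1) +
        Module.length A (Coh.HH X ((Coh.Rpush g 1).obj F) 0) := by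
  let I := injectiveResolution F
  let Z0 := CohDelta.Syzygy.Z I 0
  let Z1 := CohDelta.Syzygy.Z I (0 + 1)
  let S := CohDelta.Syzygy.seq I 0
  have hS : S.ShortExact := CohDelta.Syzygy.seq_shortExact I 0
  haveI : Injective (I.cocomplex.X 0) := I.injective 0
  let G := Scheme.Modules.pushforward g
  let a := G.map S.f
  let b := G.map S.g
  haveI := CohDelta.BC.Lift.pushforward_preservesFiniteLimits g
  haveI : Mono S.f := hS.mono_f
  haveI : Mono a := G.map_mono _
  have hb0 : a ≫ b = 0 := by rw [← G.map_comp, S.zero, G.map_zero]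
  let T2 : ShortComplex X.Modules :=
    ShortComplex.mk (Abelian.image.ι b) (cokernel.π b) (kernel.condition _)
  have hT2 : T2.ShortExact :=
    { exact := ShortComplex.exact_of_f_is_kernel _ (kernelIsKernel (cokernel.π b))
      mono_f := inferInstanceAs (Mono (kernel.ι (cokernel.π b)))
      epi_g := inferInstanceAs (Epi (cokernel.π b)) }
  let T1 : ShortComplex X.Modules :=
    ShortComplex.mk a (Abelian.factorThruImage b) (by
      rw [← cancel_mono (Abelian.image.ι b), Category.assoc, Abelian.image.fac, zero_comp, hb0])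
  have hT1 : T1.ShortExact :=
    { exact := by
        have h1 : (S.map G).Exact := by
          haveI : Mono S.f := hS.mono_f
          exact ShortComplex.exact_of_f_is_kernel _
            (isLimitForkMapOfIsLimit' G S.zero hS.fIsKernel)
        let φ : T1 ⟶ S.map G :=
          { τ₁ := 𝟙 _, τ₂ := 𝟙 _, τ₃ := Abelian.image.ι b
            comm₁₂ := (Category.id_comp _).trans (Category.comp_id _).symm
            comm₂₃ := (Category.id_comp _).trans (Abelian.image.fac b).symm }
        haveI : Epi φ.τ₁ := inferInstanceAs (Epi (𝟙 _))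
        haveI : IsIso φ.τ₂ := inferInstanceAs (IsIso (𝟙 _))
        haveI : Mono φ.τ₃ := inferInstanceAs (Mono (Abelian.image.ι b))
        exact (ShortComplex.exact_iff_of_epi_of_isIso_of_mono φ).2 h1
      mono_f := inferInstanceAs (Mono a)
      epi_g := inferInstanceAs (Epi (Abelian.factorThruImage b)) }
  have hI : ∀ n, Subsingleton (Coh.HH X' (I.cocomplex.X 0) (n + 1)) := fun n =>
    haveI := CohDelta.Flasque.subsingleton_HU (I.cocomplex.X 0) ⊤ n
    @Equiv.subsingleton _ _ (ZarCoh.Compare.hTop (Coh.toAb (I.cocomplex.X 0)) (n + 1)).toEquiv this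
  have hGI : Subsingleton (Coh.HH X (G.obj (I.cocomplex.X 0)) 1) :=
    haveI := hI 0
    (pushL_one_injective A g hg (I.cocomplex.X 0)).subsingleton
  let eZ : F ≅ Z0 := CohDelta.Syzygy.augIso I
  have h2' : Subsingleton (Coh.HH X (G.obj Z0) 2) :=
    haveI := h2
    (Curves.LES.isoK A (G.mapIso eZ) 2).symm.toEquiv.subsingleton
  have hK1 : Subsingleton (Coh.HH X (Abelian.image b) 1) := by
    refine subsingleton_of_forall_eq 0 fun x => ?_
    obtain ⟨w, hw⟩ := (Curves.LES.exactK₃ A hT1 1 2 rfl x).1 (h2'.elim _ _)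
    exact hw.symm.trans ((congrArg (Curves.LES.mapK A T1.g 1) (hGI.elim w 0)).trans (map_zero _))
  obtain ⟨e, -⟩ := CohDelta.BC.Lift.exists_iso_R I g 0
  let c : Coh.HH X' Z1 0 ≃ₗ[A] Coh.HH X (G.obj Z1) 0 :=
    (LinearEquiv.ofBijective (pushL A g hg Z1 0) (pushL_zero_bijective A g hg Z1)).symm
  have key := length_eq (Curves.LES.mapK A T1.g 0) (Curves.LES.mapK A T2.f 0)
    (Curves.LES.mapK A T2.g 0) (Curves.LES.δK A hT1 0 1 rfl)
    ((Curves.LES.δK A hS 0 1 rfl) ∘ₗ c.symm.toLinearMap)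
    (haveI := hT2.mono_f; Curves.LES.mapK_injective_of_mono A T2.f)
    (fun y => (Curves.LES.exactK₃ A hT2 0 1 rfl y).1 (hK1.elim _ _))
    (Curves.LES.exactK₂ A hT2 0)
    (fun y => (Curves.LES.exactK₁ A hT1 0 1 rfl y).1 (hGI.elim _ _))
    (Curves.LES.exactK₃ A hT1 0 1 rfl)
    (fun y => by
      obtain ⟨z, hz⟩ := (Curves.LES.exactK₁ A hS 0 1 rfl y).1 ((hI 0).elim _ _)
      exact ⟨c z, (congrArg (Curves.LES.δK A hS 0 1 rfl) (c.symm_apply_apply z)).trans hz⟩)
    (fun p => by
      have hcomp : ∀ w, Curves.LES.mapK A T2.f 0 (Curves.LES.mapK A T1.g 0 w) =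
          Curves.LES.mapK A b 0 w := fun w =>
        (LinearMap.congr_fun (Curves.LES.mapK_comp A T1.g T2.f 0) w).symm.trans
          (LinearMap.congr_fun (congrArg (fun t => Curves.LES.mapK A t 0) (Abelian.image.fac b)) w)
      refine ⟨fun h => ?_, ?_⟩
      · obtain ⟨w, hw⟩ := (Curves.LES.exactK₃ A hS 0 1 rfl _).1 h
        obtain ⟨w', rfl⟩ := (pushL_zero_bijective A g hg S.X₂).2 w
        refine ⟨w', (hcomp w').trans ((pushL_zero_bijective A g hg Z1).1 ?_)⟩
        exact (pushL_natural A g hg S.g 0 w').trans hw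
      · rintro ⟨w', rfl⟩
        refine (Curves.LES.exactK₃ A hS 0 1 rfl _).2 ⟨pushL A g hg S.X₂ 0 w', ?_⟩
        refine (pushL_natural A g hg S.g 0 w').symm.trans ?_
        exact congrArg (pushL A g hg Z1 0) (hcomp w').symm)
  rw [(Curves.LES.isoK A eZ 1).length_eq, (Curves.LES.isoK A (G.mapIso eZ) 1).length_eq,
    (Curves.LES.isoK A e 0).symm.length_eq]
  exact key

end Groth.Agent.Lib.Amp36.Modif.LerayLow
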