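import Groth.Prelude.Def_Curv2
import Groth.Agent.Lib.Amp36.Modif.Extend
import Groth.Agent.Lib.BlowUpExists.Proper
import Groth.Agent.Lib.Ideal.BlowUp
import Groth.Agent.Lib.ZarCoh.Affine
import Groth.Agent.S15137
import Groth.Agent.S7330

/-!
# Tools for induction along blow-ups of a surface
-/

set_option autoImplicit false
set_option linter.style.haveILetI false
universe u

open CategoryTheory CategoryTheory.Limits AlgebraicGeometry TopologicalSpace Opposite

namespace Groth.Agent.Lib.Amp36.Modif.Induct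

open Groth.Agent Groth.Agent.Lib

/-- An affine scheme has no `H¹`. -/
theorem subsingleton_HH_affine (W : Scheme.{u}) [IsAffine W] :
    Subsingleton (Coh.HH W (Coh.structureModule W) 1) := by
  haveI : (Coh.structureModule W).IsQuasicoherent := TensorMod.QCohInv.isQCoh_structureModule _
  have h : Subsingleton (CohTop.HU (Coh.toAb (Coh.structureModule W)) 1 (⊤ : W.Opens)) :=
    ZarCoh.Affine.HU_subsingleton _ (isAffineOpen_top W) 0
  exact @Equiv.subsingleton _ _ (ZarCoh.Compare.hTop (Coh.toAb (Coh.structureModule W)) 1).toEquiv h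

/-- If `H¹` vanishes over the local schemes at the closed points, it can be computed downstairs. -/
theorem subsingleton_H1_of_local {R : Type u} [CommRing R] [IsNoetherianRing R]
    {X X' : Scheme.{u}} (q : X ⟶ Spec (CommRingCat.of R)) [IsProper q] [IsIntegral X]
    (hn : Pi1.IsNormalScheme X) [IsIntegral X'] (ρ : X' ⟶ X) [IsProper ρ]
    (U : X.Opens) (hU : (U : Set X).Nonempty) [IsIso (ρ ∣_ U)]
    (h1 : Subsingleton (Coh.HH X (Coh.structureModule X) 1))
    (hloc : ∀ x : X, IsClosed ({x} : Set X) →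
      Subsingleton (Coh.HH (pullback ρ (X.fromSpecStalk x)) (Coh.structureModule _) 1)) :
    Subsingleton (Coh.HH X' (Coh.structureModule X') 1) := by
  haveI : IsLocallyNoetherian X := LocallyOfFiniteType.isLocallyNoetherian q
  haveI : CompactSpace X := QuasiCompact.compactSpace_of_compactSpace q
  obtain ⟨hgen, hst⟩ := S15137.gen_props ρ U hU
  have happ := Groth.Agent.H34.Stein.isIso_app_of_birational ρ hn hgen hst
  haveI : IsIso (ClSub.unitToPush ρ) := by
    rw [Scheme.Modules.Hom.isIso_iff_isIso_app]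
    intro W
    rw [ConcreteCategory.isIso_iff_bijective]
    haveI := happ W
    exact ConcreteCategory.bijective_of_isIso (ρ.app W)
  let B : Set X.Opens := {W | Subsingleton
    (CohTop.HU (Coh.toAb (Coh.structureModule X')) 1 ((Opens.map ρ.base).obj W))}
  have hB : Opens.IsBasis B := by
    refine Opens.isBasis_iff_nbhd.2 fun {O y} hy => ?_
    obtain ⟨x₀, hx₀, hx₀c⟩ := (isClosed_closure (s := ({y} : Set X))).exists_closed_singleton
      ⟨y, subset_closure rfl⟩
    obtain ⟨V, hV, hxV, -⟩ := exists_isAffineOpen_mem_and_subset (U := (⊤ : X.Opens)) (x := x₀) trivial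
    obtain ⟨V', hxV', hvan⟩ := S15137.exists_nhd_vanish ρ hV hxV (hloc x₀ hx₀c)
    have hyV' : y ∈ V' := (specializes_iff_mem_closure.mpr hx₀).mem_open V'.2 hxV'
    obtain ⟨W, hW, hyW, hWle⟩ := exists_isAffineOpen_mem_and_subset (U := O ⊓ V') (x := y) ⟨hy, hyV'⟩
    exact ⟨W, hvan W hW fun z hz => (hWle hz).2, hyW, fun z hz => (hWle hz).1⟩
  have hH := ((ZarCoh.Push.bijective_and_injective (f := ρ.base) (⊤ : X.Opens) hB 1
    (Coh.toAb (Coh.structureModule X'))) fun W hW q hq => by
      obtain rfl : q = 0 := by omega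
      exact hW).1
  letI : X.Over (Spec (CommRingCat.of R)) := ⟨q⟩
  haveI : Subsingleton (Coh.HH X ((Coh.push ρ).obj (Coh.structureModule X')) 1) :=
    haveI := h1
    (Curves.LES.isoK R (asIso (ClSub.unitToPush ρ)) 1).symm.toEquiv.subsingleton
  exact @Equiv.subsingleton _ _ (Equiv.ofBijective _
    (ZarCoh.PushH.pushH_bijective_of ρ.base (Coh.toAb (Coh.structureModule X')) 1 hH)).symm ‹_›

/-- A scheme finite over a blow-up in the unit ideal of an affine scheme has no `H¹`. -/
theorem subsingleton_H1_of_top {B : Type u} [CommRing B] {Y W : Scheme.{u}}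
    {b : Y ⟶ Spec (CommRingCat.of B)} {J : (Spec (CommRingCat.of B)).IdealSheafData}
    (hJ : (J.support : Set (Spec (CommRingCat.of B))) = ∅)
    (hb : BlowUp.IsBlowUp b J) (h : W ⟶ Y) [IsAffineHom h] :
    Subsingleton (Coh.HH W (Coh.structureModule W) 1) := by
  have h1 := Ideal.BlowUp.isIso_off_center hb
  have e : J.support.compl = ⊤ := Opens.ext (by
    show (J.support : Set (Spec (CommRingCat.of B)))ᶜ = _
    rw [hJ, Set.compl_empty]; rfl)
  rw [e] at h1
  haveI : IsIso b := by
    haveI : IsIso (⊤ : (Spec (CommRingCat.of B)).Opens).ι :=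
      inferInstanceAs (IsIso (Spec (CommRingCat.of B)).topIso.hom)
    haveI : IsIso (b ⁻¹ᵁ ⊤).ι := inferInstanceAs (IsIso Y.topIso.hom)
    have h2 : IsIso ((b ∣_ ⊤) ≫ (⊤ : (Spec (CommRingCat.of B)).Opens).ι) := inferInstance
    rw [morphismRestrict_ι] at h2
    exact IsIso.of_isIso_comp_left (b ⁻¹ᵁ ⊤).ι b
  haveI : IsAffine Y := IsAffine.of_isIso b
  haveI : IsAffine W := isAffine_of_isAffineHom h
  exact subsingleton_HH_affine W

set_option backward.isDefEq.respectTransparency.types false in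
/-- A normal scheme finite over a blow-up of `K` dominating a scheme finite over a blow-up of a factor. -/
theorem exists_dominating {A : Type u} [CommRing A] [IsDomain A] [IsNoetherianRing A]
    [IsIntegrallyClosed A] (hN : CAlg.IsNagata A) {Y Y' W : Scheme.{u}}
    {b : Y ⟶ Spec (CommRingCat.of A)} {I : (Spec (CommRingCat.of A)).IdealSheafData}
    (hb : BlowUp.IsBlowUp b I) [IsProper b]
    {b' : Y' ⟶ Spec (CommRingCat.of A)} {K : (Spec (CommRingCat.of A)).IdealSheafData}
    (hb' : BlowUp.IsBlowUp b' K) [IsProper b']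
    (u : Y' ⟶ Y) (hu : u ≫ b = b')
    (h : W ⟶ Y) [IsFinite h] [IsIntegral W] (U : (Spec (CommRingCat.of A)).Opens)
    (hU : (U : Set (Spec (CommRingCat.of A))).Nonempty) [IsIso ((h ≫ b) ∣_ U)]
    (hUI : Disjoint (I.support : Set (Spec (CommRingCat.of A))) (U : Set _))
    (hUK : Disjoint (K.support : Set (Spec (CommRingCat.of A))) (U : Set _)) :
    ∃ (W' : Scheme.{u}) (h' : W' ⟶ Y') (v : W' ⟶ W), IsFinite h' ∧ v ≫ h ≫ b = h' ≫ b' ∧
      S7330.IsMod A W' (h' ≫ b') := by
  obtain ⟨sW, hsW⟩ : ∃ s : (U : Scheme.{u}) ⟶ W, s ≫ h ≫ b = U.ι :=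
    ⟨inv ((h ≫ b) ∣_ U) ≫ ((h ≫ b) ⁻¹ᵁ U).ι, by
      rw [Category.assoc, ← morphismRestrict_ι, IsIso.inv_hom_id_assoc]⟩
  have hdis : ∀ (L : (Spec (CommRingCat.of A)).IdealSheafData),
      Disjoint (L.support : Set (Spec (CommRingCat.of A))) (U : Set _) →
      BlowUp.IsEffCartierIdeal (L.comap U.ι) := fun L hL =>
    Ideal.EffCartier.isEffCartier_comap_of_disjoint U.ι fun y hy => Set.disjoint_left.1 hL hy y.2
  obtain ⟨sY, hsY, -⟩ := hb'.2 (U : Scheme.{u}) U.ι (hdis K hUK)
  obtain ⟨s, -, huniq⟩ := hb.2 (U : Scheme.{u}) U.ι (hdis I hUI)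
  have hcomm : sW ≫ h = sY ≫ u := by
    rw [huniq (sW ≫ h) (by simp only [Category.assoc]; exact hsW),
      huniq (sY ≫ u) (by simp only [Category.assoc, hu]; exact hsY)]
  let qZ : pullback h u ⟶ Spec (CommRingCat.of A) := pullback.snd h u ≫ b'
  haveI : IsProper qZ := inferInstanceAs (IsProper (pullback.snd h u ≫ b'))
  let h₀ : (U : Scheme.{u}) ⟶ pullback h u := pullback.lift sW sY hcomm
  have hq : h₀ ≫ qZ = U.ι := by
    show h₀ ≫ pullback.snd h u ≫ b' = _
    rw [pullback.lift_snd_assoc, hsY]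
  haveI : IsPreimmersion h₀ := by
    haveI : IsPreimmersion (h₀ ≫ qZ) := by rw [hq]; infer_instance
    exact S1649.preimm_of_comp h₀ qZ
  haveI : IsSeparated (h₀ ≫ qZ) := by rw [hq]; infer_instance
  obtain ⟨x, hx⟩ := hU
  haveI : Nonempty (U : Scheme.{u}) := ⟨⟨x, hx⟩⟩
  haveI : IsIntegral (U : Scheme.{u}) := isIntegral_of_isOpenImmersion U.ι
  haveI : CompactSpace (U : Scheme.{u}) :=
    isCompact_iff_compactSpace.1 (NoetherianSpace.isCompact (U : Set (Spec (CommRingCat.of A))))
  haveI : IsLocallyNoetherian (U : Scheme.{u}) := LocallyOfFiniteType.isLocallyNoetherian U.ι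
  haveI : IsNoetherian (U : Scheme.{u}) := {}
  have hUn : Pi1.IsNormalScheme (U : Scheme.{u}) := fun z => by
    have hN' := RatSing74.FiniteExt.spec_isNormalScheme A (U.ι z)
    haveI := hN'.1
    haveI := hN'.2
    let e := (asIso (U.ι.stalkMap z)).commRingCatIsoToRingEquiv
    haveI : IsDomain ((U : Scheme.{u}).presheaf.stalk z) := e.toMulEquiv.isDomain_iff.mp inferInstance
    exact ⟨inferInstance, IsIntegrallyClosed.of_equiv e⟩
  have hgen : U.ι (genericPoint (U : Scheme.{u})) = genericPoint (Spec (CommRingCat.of A)) :=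
    genericPoint_eq_of_isOpenImmersion U.ι
  obtain ⟨W', p, r, ν, hint, hp, hn, hbir, -, -, hνp, -, hνfin⟩ :=
    Amp36.Modif.Extend.exists_normal_closure_finite hN hUn h₀ qZ
      (by rw [hq]; exact hgen) (by
        have key : ∀ (m : (U : Scheme.{u}) ⟶ Spec (CommRingCat.of A)),
            Function.Surjective (m.stalkMap (genericPoint (U : Scheme.{u}))) → m = h₀ ≫ qZ →
            Function.Surjective ((h₀ ≫ qZ).stalkMap (genericPoint (U : Scheme.{u}))) := by
          rintro _ h rfl; exact h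
        exact key U.ι (ConcreteCategory.bijective_of_isIso _).2 hq.symm)
  haveI := hνfin
  have e : (ν ≫ pullback.snd h u) ≫ b' = p := by rw [Category.assoc]; exact hνp
  refine ⟨W', ν ≫ pullback.snd h u, ν ≫ pullback.fst h u, inferInstance, ?_, ?_⟩
  · rw [Category.assoc, pullback.condition_assoc, hu, ← Category.assoc]
  · rw [e]; exact ⟨hp, hint, hn, hbir⟩

end Groth.Agent.Lib.Amp36.Modif.Induct
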