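import Groth.Agent.Lib.Amp36.Modif.LerayLow
import Groth.Agent.Lib.LerayDeg51.Basic
import Groth.Agent.Lib.FibreVanish36.Main
import Groth.Agent.Lib.FibreVanish36.Coherent
import Groth.Agent.H52.PointSupp
import Groth.Agent.Lib.Snapper.Chi
import Groth.Agent.Lib.Snapper.Finite
import Groth.Agent.Lib.CohDelta.AbR
import Groth.Agent.Lib.Amp36.Modif.Birat
import Groth.Agent.Lib.Curves.GlobalSections
import Groth.Agent.Lib.Snapper.Twist

/-!
# Euler characteristics and the first direct image of a point modification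
-/

set_option autoImplicit false
set_option linter.style.haveILetI false
universe u

open CategoryTheory Limits AlgebraicGeometry TopologicalSpace Opposite

namespace Groth.Agent.Lib.Amp36.Modif.LerayEuler

open Groth.Agent.Lib

variable (k : Type u) [Field k] {S X : Scheme.{u}} [S.Over (Spec (CommRingCat.of k))]
  [X.Over (Spec (CommRingCat.of k))] (g : S ⟶ X)
  (hg : g ≫ (X ↘ Spec (CommRingCat.of k)) = S ↘ Spec (CommRingCat.of k))

include hg in
set_option maxHeartbeats 1000000 in
/-- `χ(S, F) = χ(X, g_*F) - h⁰(X, R¹g_*F)` when the fibres are at most curves. -/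
theorem euler_eq [IsNoetherian S] [IsNoetherian X] [IsProper g] (F : S.Modules) [F.IsQuasicoherent]
    (hS : topologicalKrullDim S ≤ ((2 : ℕ) : WithBot ℕ∞)) (hX : topologicalKrullDim X ≤ ((2 : ℕ) : WithBot ℕ∞))
    (hd : ∀ y, topologicalKrullDim ↥(g.fiber y) ≤ ((1 : ℕ) : WithBot ℕ∞))
    (hfS : ∀ i, FiniteDimensional k (Coh.HH S F i))
    (hfX : ∀ i, FiniteDimensional k (Coh.HH X ((Coh.push g).obj F) i))
    (I : InjectiveResolution F)
    (hR : Subsingleton (Coh.HH X (CohDelta.Syzygy.R I g 0) 1)) :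
    Curv2.euler k S F = Curv2.euler k X ((Coh.push g).obj F) -
        Module.finrank k (Coh.HH X (CohDelta.Syzygy.R I g 0) 0) ∧
      (Module.finrank k (Coh.HH X (CohDelta.Syzygy.R I g 0) 0) = 0 →
        Subsingleton (Coh.HH X (CohDelta.Syzygy.R I g 0) 0)) := by
  let Z0 := CohDelta.Syzygy.Z I 0
  let Z1 := CohDelta.Syzygy.Z I (0 + 1)
  let Q := CohDelta.Syzygy.seq I 0
  have hQ : Q.ShortExact := CohDelta.Syzygy.seq_shortExact I 0
  haveI : Injective (I.cocomplex.X 0) := I.injective 0
  let G := Scheme.Modules.pushforward g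
  let a := G.map Q.f
  let b := G.map Q.g
  haveI := CohDelta.BC.Lift.pushforward_preservesFiniteLimits g
  haveI : Mono Q.f := hQ.mono_f
  haveI : Mono a := G.map_mono _
  have hb0 : a ≫ b = 0 := by rw [← G.map_comp, Q.zero, G.map_zero]
  let T2 : ShortComplex X.Modules :=
    ShortComplex.mk (Abelian.image.ι b) (cokernel.π b) (kernel.condition _)
  have hT2 : T2.ShortExact :=
    { exact := ShortComplex.exact_of_f_is_kernel _ (kernelIsKernel (cokernel.π b))
      mono_f := inferInstanceAs (Mono (kernel.ι (cokernel.π b)))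
      epi_g := inferInstanceAs (Epi (cokernel.π b)) }
  let T1 : ShortComplex X.Modules :=
    ShortComplex.mk a (Abelian.factorThruImage b) (by
      rw [← cancel_mono (Abelian.image.ι b), Category.assoc, Abelian.image.fac, zero_comp, hb0])
  have hT1 : T1.ShortExact :=
    { exact := by
        have h1 : (Q.map G).Exact :=
          ShortComplex.exact_of_f_is_kernel _ (isLimitForkMapOfIsLimit' G Q.zero hQ.fIsKernel)
        let φ : T1 ⟶ Q.map G :=
          { τ₁ := 𝟙 _, τ₂ := 𝟙 _, τ₃ := Abelian.image.ι b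
            comm₁₂ := (Category.id_comp _).trans (Category.comp_id _).symm
            comm₂₃ := (Category.id_comp _).trans (Abelian.image.fac b).symm }
        haveI : Epi φ.τ₁ := inferInstanceAs (Epi (𝟙 _))
        haveI : IsIso φ.τ₂ := inferInstanceAs (IsIso (𝟙 _))
        haveI : Mono φ.τ₃ := inferInstanceAs (Mono (Abelian.image.ι b))
        exact (ShortComplex.exact_iff_of_epi_of_isIso_of_mono φ).2 h1
      mono_f := inferInstanceAs (Mono a)
      epi_g := inferInstanceAs (Epi (Abelian.factorThruImage b)) }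
  have hI : ∀ n, Subsingleton (Coh.HH S (I.cocomplex.X 0) (n + 1)) := fun n =>
    haveI := CohDelta.Flasque.subsingleton_HU (I.cocomplex.X 0) ⊤ n
    @Equiv.subsingleton _ _ (ZarCoh.Compare.hTop (Coh.toAb (I.cocomplex.X 0)) (n + 1)).toEquiv this
  have hGflasque : TopCat.Sheaf.IsFlasque (Coh.toAb (G.obj (I.cocomplex.X 0))) :=
    haveI := CohDelta.Flasque.isFlasque_toAb (I.cocomplex.X 0)
    ⟨fun {U V} i => (CohDelta.Flasque.isFlasque_toAb (I.cocomplex.X 0)).epi ((Opens.map g.base).map i.unop).op⟩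
  have hGI : ∀ n, Subsingleton (Coh.HH X (G.obj (I.cocomplex.X 0)) (n + 1)) := fun n =>
    haveI := hGflasque
    haveI := ZarCoh.Basic.HU_flasque (Coh.toAb (G.obj (I.cocomplex.X 0))) ⊤ n
    @Equiv.subsingleton _ _ (ZarCoh.Compare.hTop (Coh.toAb (G.obj (I.cocomplex.X 0))) (n + 1)).toEquiv this
  let eZ : F ≅ Z0 := CohDelta.Syzygy.augIso I
  haveI : (CohDelta.Syzygy.Z I 0).IsQuasicoherent :=
    ObjectProperty.prop_of_iso (SheafOfModules.isQuasicoherent (R := S.ringCatSheaf)) eZ ‹_›
  -- the first direct image of the first syzygy vanishes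
  have hV1 : LerayDeg51.Van g.base (Coh.toAb Z1) 1 := fun q hq => by
    obtain rfl : q = 0 := by omega
    refine ZarCoh.RpushVanish.isZero_RpushAb g.base X.isBasis_affineOpens 0 fun W hW => ?_
    haveI h2 := FibreVanish36.Main.subsingleton_HU g FibreVanish36.Coherent.cohVanish 1 hW
      (fun y _ => hd y) Z0 1 le_rfl
    haveI h1 := CohDelta.Flasque.subsingleton_HU (I.cocomplex.X 0) (g ⁻¹ᵁ W) 0
    refine subsingleton_of_forall_eq 0 fun x => ?_
    obtain ⟨w, hw⟩ := Abelian.Ext.covariant_sequence_exact₃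
      (ZarCoh.Basic.Zs.obj ((Opens.map g.base).obj W))
      (CohDelta.Basic.abS_shortExact hQ) x (show 0 + 1 + 1 = 0 + 1 + 1 from rfl) (h2.elim _ _)
    obtain rfl : w = 0 := h1.elim _ _
    exact hw.symm.trans (Abelian.Ext.zero_comp _ _ _ _ _)
  have hb1 : Function.Bijective (LerayLow.pushL k g hg Z1 1) :=
    ZarCoh.PushH.pushH_bijective_of g.base (Coh.toAb Z1) 1
      (LerayDeg51.bijective_and_injective ⊤ 1 _ hV1).1
  let c : Coh.HH S Z1 0 ≃ₗ[k] Coh.HH X (G.obj Z1) 0 :=
    (LinearEquiv.ofBijective (LerayLow.pushL k g hg Z1 0) (LerayLow.pushL_zero_bijective k g hg Z1)).symm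
  -- degree one
  let q₀ := Curves.LES.mapK k T2.g 0
  let q₁ := q₀.rangeRestrict
  have key : Module.length k (Coh.HH S Z0 1) =
      Module.length k (Coh.HH X (G.obj Z0) 1) + Module.length k ↥(LinearMap.range q₀) := LerayLow.length_eq (Curves.LES.mapK k T1.g 0) (Curves.LES.mapK k T2.f 0)
    q₁ (Curves.LES.δK k hT1 0 1 rfl)
    ((Curves.LES.δK k hQ 0 1 rfl) ∘ₗ c.symm.toLinearMap)
    (haveI := hT2.mono_f; Curves.LES.mapK_injective_of_mono k T2.f)
    q₀.surjective_rangeRestrict
    (fun y => ⟨fun h => (Curves.LES.exactK₂ k hT2 0 y).1 (congrArg Subtype.val h),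
      fun h => Subtype.ext ((Curves.LES.exactK₂ k hT2 0 y).2 h)⟩)
    (fun y => (Curves.LES.exactK₁ k hT1 0 1 rfl y).1 ((hGI 0).elim _ _))
    (Curves.LES.exactK₃ k hT1 0 1 rfl)
    (fun y => by
      obtain ⟨z, hz⟩ := (Curves.LES.exactK₁ k hQ 0 1 rfl y).1 ((hI 0).elim _ _)
      exact ⟨c z, (congrArg (Curves.LES.δK k hQ 0 1 rfl) (c.symm_apply_apply z)).trans hz⟩)
    (fun p => by
      have hcomp : ∀ w, Curves.LES.mapK k T2.f 0 (Curves.LES.mapK k T1.g 0 w) =
          Curves.LES.mapK k b 0 w := fun w =>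
        (LinearMap.congr_fun (Curves.LES.mapK_comp k T1.g T2.f 0) w).symm.trans
          (LinearMap.congr_fun (congrArg (fun t => Curves.LES.mapK k t 0) (Abelian.image.fac b)) w)
      refine ⟨fun h => ?_, ?_⟩
      · obtain ⟨w, hw⟩ := (Curves.LES.exactK₃ k hQ 0 1 rfl _).1 h
        obtain ⟨w', rfl⟩ := (LerayLow.pushL_zero_bijective k g hg Q.X₂).2 w
        refine ⟨w', (hcomp w').trans ((LerayLow.pushL_zero_bijective k g hg Z1).1 ?_)⟩
        exact (LerayLow.pushL_natural k g hg Q.g 0 w').trans hw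
      · rintro ⟨w', rfl⟩
        refine (Curves.LES.exactK₃ k hQ 0 1 rfl _).2 ⟨LerayLow.pushL k g hg Q.X₂ 0 w', ?_⟩
        refine (LerayLow.pushL_natural k g hg Q.g 0 w').symm.trans ?_
        exact congrArg (LerayLow.pushL k g hg Z1 0) (hcomp w').symm)
  -- finiteness
  haveI : ∀ i, FiniteDimensional k (Coh.HH S Z0 i) := fun i =>
    haveI := hfS i; Module.Finite.equiv (Curves.LES.isoK k eZ i)
  haveI : ∀ i, FiniteDimensional k (Coh.HH X (G.obj Z0) i) := fun i =>
    haveI := hfX i; Module.Finite.equiv (Curves.LES.isoK k (G.mapIso eZ) i)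
  let d12 : Coh.HH X (Abelian.image b) 1 ≃ₗ[k] Coh.HH X (G.obj Z0) 2 :=
    LinearEquiv.ofBijective (Curves.LES.δK k hT1 1 2 rfl) ⟨by
      rw [injective_iff_map_eq_zero]
      intro x hx
      obtain ⟨w, hw⟩ := (Curves.LES.exactK₃ k hT1 1 2 rfl x).1 hx
      exact hw.symm.trans ((congrArg _ ((hGI 0).elim w 0)).trans (map_zero _)),
      fun y => (Curves.LES.exactK₁ k hT1 1 2 rfl y).1 ((hGI 1).elim _ _)⟩
  let e12 : Coh.HH S Z1 1 ≃ₗ[k] Coh.HH S Z0 2 :=
    LinearEquiv.ofBijective (Curves.LES.δK k hQ 1 2 rfl) ⟨by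
      rw [injective_iff_map_eq_zero]
      intro x hx
      obtain ⟨w, hw⟩ := (Curves.LES.exactK₃ k hQ 1 2 rfl x).1 hx
      exact hw.symm.trans ((congrArg _ ((hI 0).elim w 0)).trans (map_zero _)),
      fun y => (Curves.LES.exactK₁ k hQ 1 2 rfl y).1 ((hI 1).elim _ _)⟩
  haveI : FiniteDimensional k (Coh.HH X (Abelian.image b) 1) := Module.Finite.equiv d12.symm
  let p1 : Coh.HH X (G.obj Z1) 1 ≃ₗ[k] Coh.HH S Z1 1 := LinearEquiv.ofBijective _ hb1
  -- degree two
  let δ2 := Curves.LES.δK k hT2 0 1 rfl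
  let r := Curves.LES.mapK k T2.f 1
  have hr : Function.Surjective r := fun y => by
    refine (Curves.LES.exactK₂ k hT2 1 y).1 ?_
    haveI : Subsingleton (Coh.HH X T2.X₃ 1) := hR
    exact Subsingleton.elim _ _
  have hδ : LinearMap.ker r = LinearMap.range δ2 :=
    LinearMap.exact_iff.1 (Curves.LES.exactK₁ k hT2 0 1 rfl)
  have hq : LinearMap.ker δ2 = LinearMap.range q₀ :=
    LinearMap.exact_iff.1 (Curves.LES.exactK₃ k hT2 0 1 rfl)
  haveI hfr : FiniteDimensional k ↥(LinearMap.range q₀) := by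
    haveI : IsNoetherian k ↥(LinearMap.range q₀) :=
      (isFiniteLength_iff_isNoetherian_isArtinian.1 (Module.length_ne_top_iff.1 fun h => by
        rw [h, add_top, Module.length_eq_finrank] at key
        exact ENat.natCast_ne_top _ key)).1
    infer_instance
  haveI : FiniteDimensional k (Coh.HH X T2.X₃ 0) := by
    haveI : FiniteDimensional k ↥(LinearMap.ker δ2) := hq ▸ hfr
    haveI : FiniteDimensional k (Coh.HH X T2.X₃ 0 ⧸ LinearMap.ker δ2) :=
      Module.Finite.equiv δ2.quotKerEquivRange.symm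
    exact Module.Finite.of_submodule_quotient (LinearMap.ker δ2)
  have h1 : Module.finrank k (Coh.HH S Z0 1) =
      Module.finrank k (Coh.HH X (G.obj Z0) 1) + Module.finrank k ↥(LinearMap.range q₀) := by
    have := key
    rw [Module.length_eq_finrank, Module.length_eq_finrank, Module.length_eq_finrank] at this
    exact_mod_cast this
  have h2 : Module.finrank k (Coh.HH X (Abelian.image b) 1) =
      Module.finrank k (Coh.HH X (G.obj Z1) 1) + Module.finrank k ↥(LinearMap.range δ2) := by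
    rw [← hδ, ← LinearMap.finrank_range_add_finrank_ker r, LinearMap.range_eq_top.2 hr, finrank_top]
    rfl
  have h3 : Module.finrank k (Coh.HH X T2.X₃ 0) =
      Module.finrank k ↥(LinearMap.range δ2) + Module.finrank k ↥(LinearMap.range q₀) := by
    rw [← hq, LinearMap.finrank_range_add_finrank_ker]
  haveI : FiniteDimensional k (Coh.HH X (CohDelta.Syzygy.R I g 0) 0) := ‹FiniteDimensional k (Coh.HH X T2.X₃ 0)›
  refine ⟨?_, fun h => Module.finrank_zero_iff.1 h⟩
  have hh0 : Module.finrank k (Coh.HH S F 0) = Module.finrank k (Coh.HH X ((Coh.push g).obj F) 0) :=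
    (LinearEquiv.ofBijective _ (LerayLow.pushL_zero_bijective k g hg F)).finrank_eq.symm
  have e2S : Module.finrank k (Coh.HH S F 2) = Module.finrank k (Coh.HH X (G.obj Z1) 1) := by
    rw [(Curves.LES.isoK k eZ 2).finrank_eq, ← e12.finrank_eq, p1.finrank_eq]
  have e2X : Module.finrank k (Coh.HH X (G.obj F) 2) = Module.finrank k (Coh.HH X (Abelian.image b) 1) := by
    rw [(Curves.LES.isoK k (G.mapIso eZ) 2).finrank_eq, ← d12.finrank_eq]
  rw [← (Curves.LES.isoK k eZ 1).finrank_eq, ← (Curves.LES.isoK k (G.mapIso eZ) 1).finrank_eq] at h1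
  rw [Snapper.Chi.euler_eq_eulerCharLE hS, Snapper.Chi.euler_eq_eulerCharLE hX]
  unfold FGA.eulerCharLE
  simp only [Finset.sum_range_succ, Finset.sum_range_zero]
  rw [hh0, h1, e2S]
  show _ = _ + ((-1 : ℤ) ^ 2) * ((Module.finrank k (Coh.HH X (G.obj F) 2) : ℕ) : ℤ) -
    ((Module.finrank k (Coh.HH X T2.X₃ 0) : ℕ) : ℤ)
  rw [e2X, h2, h3]
  push_cast
  ring

include hg in
set_option backward.isDefEq.respectTransparency.types false in
set_option maxHeartbeats 1000000 in
/-- `R¹g_*O = 0` iff `χ(O_S) = χ(O_X)`, for `g` an isomorphism outside finitely many closed points with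
`g_*O = O` and fibres at most curves. -/
theorem isZero_iff_euler_eq [IsProper (X ↘ Spec (CommRingCat.of k))] [IsProper g]
    (hS : topologicalKrullDim S ≤ ((2 : ℕ) : WithBot ℕ∞)) (hX : topologicalKrullDim X ≤ ((2 : ℕ) : WithBot ℕ∞))
    (hd : ∀ y, topologicalKrullDim ↥(g.fiber y) ≤ ((1 : ℕ) : WithBot ℕ∞))
    (hO : IsIso (ClSub.unitToPush g)) (T : Set X) (hT : T.Finite)
    (hTc : ∀ x ∈ T, IsClosed ({x} : Set X)) (U : X.Opens) (hU : ∀ x, x ∉ T → x ∈ U) [IsIso (g ∣_ U)] :
    IsZero ((Coh.RpushAb g 1).obj (Coh.toAb (Coh.structureModule S))) ↔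
      Curv2.euler k S (Coh.structureModule S) = Curv2.euler k X (Coh.structureModule X) := by
  haveI : IsProper (S ↘ Spec (CommRingCat.of k)) := hg ▸ inferInstanceAs (IsProper (g ≫ _))
  haveI := Lib.Curves.GlobalSections.isNoetherian_of_proper k S
  haveI := Lib.Curves.GlobalSections.isNoetherian_of_proper k X
  let O := Coh.structureModule S
  haveI hOq : O.IsQuasicoherent := (Snapper.Twist.isCoh_structureModule S).1
  haveI := CohDelta.Sect.enoughInjectives (X := S)
  let I := InjectiveResolution.of O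
  haveI := hO
  let eO : Coh.structureModule X ≅ (Coh.push g).obj O := asIso (ClSub.unitToPush g)
  have hfS : ∀ i, FiniteDimensional k (Coh.HH S O i) :=
    fun i => Snapper.Finite.cohFinite k S O (Snapper.Twist.isCoh_structureModule S) i
  have hfX : ∀ i, FiniteDimensional k (Coh.HH X ((Coh.push g).obj O) i) := fun i =>
    haveI := Snapper.Finite.cohFinite k X _ (Snapper.Twist.isCoh_structureModule X) i
    Module.Finite.equiv (Curves.LES.isoK k eO i)
  obtain ⟨e⟩ := CohDelta.AbR.nonempty_rpushAb_iso g I 0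
  let R := CohDelta.Syzygy.R I g 0
  have hfl : TopCat.Sheaf.IsFlasque (X := X.toTopCat) (Coh.toAb R) := by
    refine H52.PointSupp.isFlasque (Coh.toAb R) T hTc ?_ fun x hx => ?_
    · rw [← Set.biUnion_of_singleton T]
      exact hT.isClosed_biUnion hTc
    · have hdim : topologicalKrullDim ↥(g.fiber x) ≤ ((0 : ℕ) : WithBot ℕ∞) := by
        rw [FibreDim.Basic.topologicalKrullDim_fiber]
        haveI : Subsingleton ↥(g.base ⁻¹' {x}) := ⟨fun a b => Subtype.ext
          (Birat.eq_of_apply_eq g U (show g a.1 ∈ U by rw [show g a.1 = x from a.2]; exact hU x hx)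
            ((show g a.1 = x from a.2).trans (show g b.1 = x from b.2).symm))⟩
        haveI : Subsingleton (IrreducibleCloseds ↥(g.base ⁻¹' {x})) := ⟨fun s t => IrreducibleCloseds.ext
          ((Set.eq_univ_of_forall fun z => by obtain ⟨w, hw⟩ := s.isIrreducible.nonempty
                                              rwa [Subsingleton.elim z w]).trans
            (Set.eq_univ_of_forall fun z => by obtain ⟨w, hw⟩ := t.isIrreducible.nonempty
                                               rwa [Subsingleton.elim z w]).symm)⟩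
        exact Order.krullDim_nonpos_of_subsingleton
      have hz := FibreVanish36.Main.stalk_vanish g FibreVanish36.Coherent.cohVanish x 0 hdim O 1
        Nat.one_pos
      let Φ := (sheafToPresheaf (Opens.grothendieckTopology ↥X) AddCommGrpCat.{u}) ⋙
        TopCat.Presheaf.stalkFunctor AddCommGrpCat.{u} x
      exact AddCommGrpCat.subsingleton_of_isZero (hz.of_iso (Φ.mapIso e).symm)
  have hR1 : Subsingleton (Coh.HH X R 1) :=
    haveI := hfl
    haveI := ZarCoh.Basic.HU_flasque (Coh.toAb R) ⊤ 0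
    @Equiv.subsingleton _ _ (ZarCoh.Compare.hTop (Coh.toAb R) (0 + 1)).toEquiv this
  obtain ⟨h1, h2⟩ := euler_eq k g hg O hS hX hd hfS hfX I hR1
  have hiso : Curv2.euler k X ((Coh.push g).obj O) = Curv2.euler k X (Coh.structureModule X) :=
    (Curves.Euler.euler_eq_of_iso eO).symm
  rw [hiso] at h1
  constructor
  · intro hz
    have : Subsingleton (Coh.HH X R 0) := by
      have h3 : IsZero (Coh.toAb R) := hz.of_iso e.symm
      refine subsingleton_of_forall_eq 0 fun y => ?_
      have h4 : Abelian.Ext.comp y (Abelian.Ext.mk₀ (𝟙 (Coh.toAb R))) (add_zero 0) = y :=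
        Abelian.Ext.comp_mk₀_id y
      rw [h3.eq_of_src (𝟙 (Coh.toAb R)) 0, Abelian.Ext.mk₀_zero, Abelian.Ext.comp_zero] at h4
      exact h4.symm
    rw [h1, Module.finrank_zero_of_subsingleton]
    simp
  · intro he
    haveI h0 : Subsingleton (Coh.HH X R 0) := h2 (by
      rw [he] at h1
      have : ((Module.finrank k (Coh.HH X R 0) : ℕ) : ℤ) = 0 := by linarith
      exact_mod_cast this)
    refine IsZero.of_iso ?_ e
    refine FibreVanish36.Affine.isZero_of_stalk _ fun x => ?_
    haveI : Subsingleton Γ(R, ⊤) := (Curves.GlobalSections.h0Equiv R).symm.toEquiv.subsingleton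
    have hU : ∀ W : X.Opens, Subsingleton Γ(R, W) := fun W => by
      refine Function.Surjective.subsingleton (f := fun s : Γ(R, ⊤) => R.presheaf.map (homOfLE le_top).op s) ?_
      exact (AddCommGrpCat.epi_iff_surjective _).1 (hfl.epi (homOfLE (le_top : W ≤ ⊤)).op)
    refine @AddCommGrpCat.isZero_of_subsingleton _ (subsingleton_of_forall_eq 0 fun t => ?_)
    obtain ⟨W, hW, s, rfl⟩ := TopCat.Presheaf.exists_germ_eq (Coh.toAb R).obj t
    exact (congrArg _ (@Subsingleton.elim _ (hU W) s 0)).trans (map_zero _)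

end Groth.Agent.Lib.Amp36.Modif.LerayEuler
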