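import Groth.Prelude.Def_Curv2
import Groth.Agent.Lib.Amp36.Modif.FibrePow
import Groth.Agent.Lib.RatSing74.FiniteExt
import Groth.Agent.Lib.Regular.UFD
import Groth.Agent.Lib.Flat55.ContractionFibre
import Groth.Agent.Lib.RelDiv.Diff
import Groth.Agent.S1624
import Groth.Agent.S7299

/-!
# Ideals on the blow-up of the closed point of a regular surface
-/

set_option autoImplicit false
set_option linter.style.haveILetI false
universe u

open CategoryTheory CategoryTheory.Limits AlgebraicGeometry TopologicalSpace Opposite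

namespace Groth.Agent.Lib.Amp36.Modif.PointBlow

open Groth.Agent Groth.Agent.Lib
open Groth.Agent.Lib.Amp36.Modif.FibrePow

variable {A : Type u} [CommRing A] [IsRegularLocalRing A] {X : Scheme.{u}}
  {f : X ⟶ Spec (CommRingCat.of A)}

local notation "𝔪" => IsLocalRing.maximalIdeal A

theorem isProper (hb : BlowUp.IsBlowUp f (Curv2.idealSheaf A 𝔪)) : IsProper f :=
  BlowUpExists.isProper_of_isBlowUp hb fun U => by
    haveI : IsNoetherianRing Γ(Spec (CommRingCat.of A), U.1) :=
      IsLocallyNoetherian.component_noetherian U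
    exact IsNoetherian.noetherian _

theorem closedPoint_ne_genericPoint (hA : ringKrullDim A = 2) [IsDomain A] :
    genericPoint (Spec (CommRingCat.of A)) ≠ IsLocalRing.closedPoint A := by
  rw [genericPoint_eq_bot_of_affine]
  intro h
  have h0 : (⊥ : Ideal A) = IsLocalRing.maximalIdeal A := congrArg PrimeSpectrum.asIdeal h
  have hF : IsField A := IsLocalRing.isField_iff_maximalIdeal_eq.mpr h0.symm
  rw [ringKrullDim_eq_zero_of_isField hF] at hA
  exact absurd hA (by decide)

theorem exists_iso (hA : ringKrullDim A = 2) (hb : BlowUp.IsBlowUp f (Curv2.idealSheaf A 𝔪)) :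
    ∃ U : (Spec (CommRingCat.of A)).Opens, (U : Set (Spec (CommRingCat.of A))).Nonempty ∧
      IsIso (f ∣_ U) := by
  haveI : IsDomain A := Regular.Quotient.isDomain A
  refine ⟨(Curv2.idealSheaf A 𝔪).support.compl, ⟨genericPoint (Spec (CommRingCat.of A)), ?_⟩,
    Ideal.BlowUp.isIso_off_center hb⟩
  intro h
  have h' : genericPoint (Spec (CommRingCat.of A)) ∈
      ((Curv2.idealSheaf A 𝔪).support : Set (Spec (CommRingCat.of A))) := h
  rw [Flat55.ContractionFibre.support_eq] at h'
  exact closedPoint_ne_genericPoint hA h'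

theorem ρ_bijective (hA : ringKrullDim A = 2) (hb : BlowUp.IsBlowUp f (Curv2.idealSheaf A 𝔪)) :
    Function.Bijective (ρ f ⊤) := by
  haveI : IsDomain A := Regular.Quotient.isDomain A
  haveI := Regular.UFD.isIntegrallyClosed A
  haveI := PointBlow85.isIntegral hA hb
  haveI := isProper hb
  obtain ⟨U, hU, h⟩ := exists_iso hA hb
  exact S7299.ρ_top_bijective f U hU

/-- The global sections of the powers of the exceptional ideal are the powers of the maximal ideal. -/
theorem mem_pow (hA : ringKrullDim A = 2) (hb : BlowUp.IsBlowUp f (Curv2.idealSheaf A 𝔪)) (n : ℕ)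
    (a : A) (h : ∀ U : X.affineOpens, ρ f U.1 a ∈ (I f 𝔪 n).ideal U) : a ∈ 𝔪 ^ n := by
  haveI : IsDomain A := Regular.Quotient.isDomain A
  haveI := PointBlow85.isIntegral hA hb
  haveI := isProper hb
  obtain ⟨V₀, hV₀, hiso⟩ := exists_iso hA hb
  haveI := hiso
  have hbij := ρ_bijective hA hb
  obtain ⟨r, t, ht⟩ := Submodule.fg_iff_exists_fin_generating_family.1
    (IsNoetherian.noetherian 𝔪)
  have hH : ∀ F : X.Modules, F.IsQuasicoherent → Curv2.IsGloballyGenerated F →
      Subsingleton (Coh.HH X F 1) := fun F hq hg => S1624.result A hA X f hb F hq hg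
  suffices key : ∀ (m : ℕ) (a : A), (∀ U : X.affineOpens,
      ρ f U.1 a ∈ (I f 𝔪 m).ideal U) → a ∈ 𝔪 ^ m from key n a h
  intro m
  induction m with
  | zero => intro a _; simp
  | succ m ih =>
    intro a ha
    cases m with
    | zero =>
      rw [zero_add, pow_one]
      by_contra hu
      have hua : IsUnit a := IsLocalRing.notMem_maximalIdeal.1 hu
      obtain ⟨x, hx⟩ := S7299.exists_over_closedPoint f (S15137.gen_props f V₀ hV₀).1
      obtain ⟨U, -, hxU⟩ := ClSub.Basis.exists_affine_le (U := (⊤ : X.Opens)) (x := x) trivial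
      have htop : ((Curv2.idealSheaf A 𝔪).comap f).ideal U = ⊤ := by
        have h1 := ha U
        rw [zero_add] at h1
        simp only [Scheme.IdealSheafData.ideal_pow, Pi.pow_apply, pow_one] at h1
        exact Ideal.eq_top_of_isUnit_mem _ h1 (hua.map _)
      have hsupp : x ∈ (((Curv2.idealSheaf A 𝔪).comap f).support : Set X) := by
        rw [Flat55.ContractionFibre.fibre_eq]
        exact hx
      rw [SetLike.mem_coe, Scheme.IdealSheafData.mem_support_iff_of_mem hxU, htop,
        Scheme.mem_zeroLocus_iff] at hsupp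
      exact hsupp 1 trivial (by rw [Scheme.basicOpen_of_isUnit _ isUnit_one]; exact hxU)
    | succ m =>
      obtain ⟨s, hs⟩ := exists_val_eq f 𝔪 (m + 1 + 1) ⊤ (ρ f ⊤ a)
        fun V hV => by rw [res_ρ]; exact ha V
      obtain ⟨c, hc⟩ := exists_combination f 𝔪 t ht hb.1 hH m s
      choose b hb' using fun i => hbij.2 (val f 𝔪 (m + 1) ⊤ (c i))
      have hbm : ∀ i, b i ∈ 𝔪 ^ (m + 1) := fun i => ih (b i) fun U => by
        rw [← res_ρ f (le_top : U.1 ≤ ⊤), hb', ← val_map]
        exact val_mem f _ _ U _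
      have e : a = ∑ i, b i * t i := hbij.1 (by
        rw [map_sum, ← hs, hc]
        exact Finset.sum_congr rfl fun i _ => by rw [map_mul, hb'])
      rw [e, pow_succ]
      exact Ideal.sum_mem _ fun i _ => Ideal.mul_mem_mul (hbm i) (t_mem 𝔪 t ht i)

/-- If the inverse image of an ideal lies in a power of the exceptional ideal, so does the ideal. -/
theorem le_pow (hA : ringKrullDim A = 2) (hb : BlowUp.IsBlowUp f (Curv2.idealSheaf A 𝔪))
    (J : Ideal A) (d : ℕ)
    (h : (Curv2.idealSheaf A J).comap f ≤ ((Curv2.idealSheaf A 𝔪).comap f) ^ d) : J ≤ 𝔪 ^ d := by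
  intro a ha
  refine mem_pow hA hb d a fun U => h U ?_
  have h1 := ideal_I f J 1 U
  simp only [pow_one] at h1
  rw [h1]
  exact _root_.Ideal.mem_map_of_mem _ ha

/-- An ideal sheaf is the unit ideal on an affine open missing its support. -/
theorem ideal_eq_top_of_disjoint {Y : Scheme.{u}} (J : Y.IdealSheafData) (V : Y.affineOpens)
    (h : Disjoint (J.support : Set Y) (V.1 : Set Y)) : J.ideal V = ⊤ := by
  have h1 : (J.support : Set Y) ∩ (V.1 : Set Y) = ∅ := h.inter_eq
  rw [J.coe_support_inter V, ← V.2.fromSpec_image_zeroLocus, Set.image_eq_empty] at h1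
  exact (PrimeSpectrum.zeroLocus_empty_iff_eq_top).1 h1

theorem idealSheaf_pow (n : ℕ) :
    Curv2.idealSheaf A (𝔪 ^ n) = Curv2.idealSheaf A 𝔪 ^ n := by
  refine Scheme.IdealSheafData.ext_of_isAffine ?_
  simp only [Scheme.IdealSheafData.ideal_pow, Pi.pow_apply]
  rw [PointBlow85.idealSheaf_top, PointBlow85.idealSheaf_top, Ideal.map_pow]

theorem support_comap_subset {J : Ideal A} {n : ℕ} (h : 𝔪 ^ n ≤ J) :
    (((Curv2.idealSheaf A J).comap f).support : Set X) ⊆ f ⁻¹' {IsLocalRing.closedPoint A} := by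
  intro x hx
  rw [Scheme.IdealSheafData.support_comap] at hx
  have h1 : f x ∈ ((Curv2.idealSheaf A (𝔪 ^ n)).support : Set (Spec (CommRingCat.of A))) :=
    Scheme.IdealSheafData.support_antitone (show Curv2.idealSheaf A (𝔪 ^ n) ≤ Curv2.idealSheaf A J from
      Scheme.IdealSheafData.le_of_isAffine (by
        simp only [PointBlow85.idealSheaf_top]
        exact Ideal.map_mono h)) (show f x ∈ (Curv2.idealSheaf A J).support from hx)
  rw [idealSheaf_pow] at h1
  cases n with
  | zero => simp at h1
  | succ n =>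
    rw [Scheme.IdealSheafData.support_pow_succ, Flat55.ContractionFibre.support_eq] at h1
    exact h1

/-- The decomposition of the inverse image of an ideal. -/
theorem exists_decomp (hA : ringKrullDim A = 2) (hb : BlowUp.IsBlowUp f (Curv2.idealSheaf A 𝔪))
    (J : Ideal A) (n : ℕ) (hn : 𝔪 ^ n ≤ J) :
    ∃ (d : ℕ) (J' : X.IdealSheafData),
      (Curv2.idealSheaf A J).comap f = J' * BlowUp.exceptional f (Curv2.idealSheaf A 𝔪) ^ d ∧
      ¬ (Curv2.idealSheaf A J).comap f ≤ BlowUp.exceptional f (Curv2.idealSheaf A 𝔪) ^ (d + 1) := by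
  classical
  haveI : IsDomain A := Regular.Quotient.isDomain A
  have hE : BlowUp.IsEffCartierIdeal (BlowUp.exceptional f (Curv2.idealSheaf A 𝔪)) := hb.1
  have hex : ∃ d, ¬ (Curv2.idealSheaf A J).comap f ≤
      BlowUp.exceptional f (Curv2.idealSheaf A 𝔪) ^ (d + 1) := by
    by_contra hall
    push Not at hall
    have h0 : ∀ d, J ≤ 𝔪 ^ d := fun d => by
      cases d with
      | zero => simp
      | succ d => exact le_pow hA hb J (d + 1) (hall d)
    have hJ : J = ⊥ := le_bot_iff.1 (by
      rw [← Ideal.iInf_pow_eq_bot_of_isLocalRing 𝔪 (IsLocalRing.maximalIdeal.isMaximal A).ne_top]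
      exact le_iInf h0)
    rw [hJ, le_bot_iff] at hn
    have hm : (𝔪 : Ideal A) = ⊥ := eq_bot_iff.2 fun a ha =>
      (Ideal.mem_bot).2 (eq_zero_of_pow_eq_zero (n := n) (by
        have := Ideal.pow_mem_pow ha n
        rwa [hn, Ideal.mem_bot] at this))
    rw [ringKrullDim_eq_zero_of_isField (IsLocalRing.isField_iff_maximalIdeal_eq.mpr hm)] at hA
    exact absurd hA (by decide)
  refine ⟨Nat.find hex, ?_⟩
  have hle : (Curv2.idealSheaf A J).comap f ≤
      BlowUp.exceptional f (Curv2.idealSheaf A 𝔪) ^ Nat.find hex := by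
    cases h : Nat.find hex with
    | zero =>
      intro U
      simp [Scheme.IdealSheafData.ideal_pow]
    | succ m =>
      by_contra hc
      exact Nat.find_min hex (m := m) (by omega) hc
  refine ⟨RelDiv.Diff.colon ((Curv2.idealSheaf A J).comap f) _
    (RelDiv.Diff.fg_of_isEffCartier (Lib.Ideal.EffCartier.isEffCartier_pow hE (Nat.find hex))), ?_,
    Nat.find_spec hex⟩
  rw [mul_comm]
  exact (RelDiv.Diff.mul_colon (Lib.Ideal.EffCartier.isEffCartier_pow hE _) hle).symm

/-- The residual ideal has finite support, consisting of closed points. -/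
theorem residual_support (hA : ringKrullDim A = 2) (hb : BlowUp.IsBlowUp f (Curv2.idealSheaf A 𝔪))
    {J : Ideal A} {n d : ℕ} (hn : 𝔪 ^ n ≤ J) {J' : X.IdealSheafData}
    (hd : (Curv2.idealSheaf A J).comap f = J' * BlowUp.exceptional f (Curv2.idealSheaf A 𝔪) ^ d)
    (hmax : ¬ (Curv2.idealSheaf A J).comap f ≤
      BlowUp.exceptional f (Curv2.idealSheaf A 𝔪) ^ (d + 1)) :
    (J'.support : Set X).Finite ∧ (∀ x ∈ (J'.support : Set X), IsClosed ({x} : Set X)) ∧
      (J'.support : Set X) ⊆ f ⁻¹' {IsLocalRing.closedPoint A} ∧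
      ∃ η ∈ f ⁻¹' {IsLocalRing.closedPoint A}, η ∉ (J'.support : Set X) ∧
        ∀ x ∈ f ⁻¹' {IsLocalRing.closedPoint A}, η ⤳ x := by
  haveI := PointBlow85.isRegularLocalRing_top A
  haveI := PointBlow85.isIntegral hA hb
  haveI := isProper hb
  haveI : IsLocallyNoetherian X := LocallyOfFiniteType.isLocallyNoetherian f
  haveI : CompactSpace X := QuasiCompact.compactSpace_of_compactSpace f
  haveI : IsNoetherian X := {}
  have hfib : (J'.support : Set X) ⊆ f ⁻¹' {IsLocalRing.closedPoint A} := by
    refine fun x hx => support_comap_subset hn ?_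
    rw [hd, Scheme.IdealSheafData.support_mul]
    exact Or.inl hx
  obtain ⟨hirr, hchain⟩ := Flat55.ContractionFibre.fibre_spec hA hb
  have hFc : IsClosed (f ⁻¹' {IsLocalRing.closedPoint A}) :=
    (Flat55.ContractionFibre.isClosed_closedPoint (A := A)).preimage f.continuous
  have hnot : ¬ (f ⁻¹' {IsLocalRing.closedPoint A}) ⊆ (J'.support : Set X) := by
    intro hsub
    refine hmax ?_
    suffices hle : J' ≤ BlowUp.exceptional f (Curv2.idealSheaf A 𝔪) by
      rw [hd]
      intro U
      simp only [Scheme.IdealSheafData.ideal_mul, Pi.mul_apply, Scheme.IdealSheafData.ideal_pow,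
        Pi.pow_apply, pow_succ']
      exact Ideal.mul_mono_left (hle U)
    obtain ⟨a, hq, hI⟩ := PointBlow85.exists_top_params hA
    haveI : (Ideal.span (Set.range a)).IsMaximal := by
      rw [← hI, PointBlow85.idealSheaf_maximal_top]; infer_instance
    let T : (Spec (CommRingCat.of A)).affineOpens := ⟨⊤, isAffineOpen_top _⟩
    choose j D hD hDU e hxD he using fun x =>
      H26.BlowSmooth.exists_chart hb x (U := T) trivial a hI
    refine Scheme.IdealSheafData.le_of_iSup_eq_top (fun x => (⟨D x, hD x⟩ : X.affineOpens))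
      (eq_top_iff.2 fun x _ => Opens.mem_iSup.2 ⟨x, hxD x⟩) fun x => ?_
    obtain ⟨hprime, -⟩ := Flat55.ContractionFibre.chart_props hq (j x)
    have hED : (BlowUp.exceptional f (Curv2.idealSheaf A 𝔪)).ideal ⟨D x, hD x⟩ =
        Ideal.map (e x).toRingHom (Ideal.span {algebraMap _ _ (a (j x))}) := by
      rw [BlowUp.exceptional, Lib.Ideal.Comap.ideal_comap f _ T ⟨D x, hD x⟩ (hDU x), hI,
        show (f.appLE T.1 (D x) (hDU x)).hom = (e x).toRingHom.comp (algebraMap _ _) from
          RingHom.ext fun r => (he x r).symm,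
        ← Ideal.map_map, BlowUpExists.map_ideal_eq_span _ _ (Ideal.subset_span (Set.mem_range_self (j x)))]
    haveI : ((BlowUp.exceptional f (Curv2.idealSheaf A 𝔪)).ideal ⟨D x, hD x⟩).IsPrime :=
      hED ▸ Ideal.map_isPrime_of_equiv (e x)
    have h1 : ((BlowUp.exceptional f (Curv2.idealSheaf A 𝔪)).support : Set X) ∩ D x ⊆
        (J'.support : Set X) ∩ D x := by
      refine Set.inter_subset_inter_left _ ?_
      rw [BlowUp.exceptional, Flat55.ContractionFibre.fibre_eq]
      exact hsub
    rw [(BlowUp.exceptional f (Curv2.idealSheaf A 𝔪)).coe_support_inter ⟨D x, hD x⟩,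
      J'.coe_support_inter ⟨D x, hD x⟩, ← (hD x).fromSpec_image_zeroLocus,
      ← (hD x).fromSpec_image_zeroLocus] at h1
    have h2 := (PrimeSpectrum.zeroLocus_subset_zeroLocus_iff _ _).mp
      ((Set.image_subset_image_iff (hD x).fromSpec.isOpenEmbedding.injective).mp h1)
    rw [Ideal.IsPrime.radical inferInstance] at h2
    exact h2
  have hcl : ∀ x ∈ (J'.support : Set X), IsClosed ({x} : Set X) := by
    intro x hx
    obtain ⟨η, hη⟩ := QuasiSober.sober hirr hFc
    have hηF : η ∈ f ⁻¹' {IsLocalRing.closedPoint A} := hη.mem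
    have hηx : η ⤳ x := hη.specializes (hfib hx)
    refine isClosed_of_closure_subset fun w hw => ?_
    have hxw : x ⤳ w := specializes_iff_mem_closure.2 hw
    have hwF : w ∈ f ⁻¹' {IsLocalRing.closedPoint A} := hxw.mem_closed hFc (hfib hx)
    rcases hchain η x w hηF hwF hηx hxw with h | h
    · refine absurd (fun z hz => ?_) hnot
      exact (hη.specializes hz).mem_closed J'.support.isClosed (h ▸ hx)
    · exact h.symm
  obtain ⟨η, hη⟩ := QuasiSober.sober hirr hFc
  refine ⟨?_, hcl, hfib, η, hη.mem, fun hmem => hnot fun z hz => ?_, fun z hz => hη.specializes hz⟩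
  swap
  · exact (hη.specializes hz).mem_closed J'.support.isClosed hmem
  obtain ⟨S, hS, hSc, hSi, heq⟩ := NoetherianSpace.exists_finite_set_isClosed_irreducible
    J'.support.isClosed
  rw [heq, Set.sUnion_eq_biUnion]
  refine hS.biUnion fun t ht => ?_
  obtain ⟨z, hz⟩ := QuasiSober.sober (hSi t ht) (hSc t ht)
  have hzs : z ∈ (J'.support : Set X) := heq ▸ Set.mem_sUnion_of_mem hz.mem ht
  rw [← hz.def, (hcl z hzs).closure_eq]
  exact Set.finite_singleton z

end Groth.Agent.Lib.Amp36.Modif.PointBlow
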