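import Groth.Prelude.Def_ModelsG
import Groth.Agent.S1648
import Groth.Agent.Lib.SurfFactor85.Seq
import Groth.Agent.Lib.SurfFactor85.Main
import Groth.Agent.Lib.SurfInt.Pencil
import Groth.Agent.Lib.CartierDescent.Stalk
import Groth.Agent.Lib.ModelFibre.StalkIdeal

/-!
# Making ideals with finite support invertible by blowing up regular points of dimension two
-/

set_option autoImplicit false
set_option linter.style.haveILetI false
universe u

open CategoryTheory CategoryTheory.Limits AlgebraicGeometry TopologicalSpace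

namespace Groth.Agent.Lib.Amp36.Modif.Principalise

open Groth.Agent Groth.Agent.Lib Groth.Agent.Lib.Ideal.Prime
open Groth.Agent.Lib.Amp36.Modif

/-- The colength at a point. -/
noncomputable def len {X : Scheme.{u}} (I : X.IdealSheafData) (x : X) : ℕ∞ :=
  Module.length (X.presheaf.stalk x) (X.presheaf.stalk x ⧸ stalkIdeal I x)

theorem length_quot_equiv {R S : Type u} [CommRing R] [CommRing S] (φ : R →+* S)
    (hφ : Function.Bijective φ) (K : _root_.Ideal R) :
    Module.length R (R ⧸ K) = Module.length S (S ⧸ K.map φ) := by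
  letI := φ.toAlgebra
  rw [← Module.length_eq_of_surjective (S := R) (R := S) (M := S ⧸ K.map φ) hφ.2]
  let L : (R ⧸ K) →ₗ[R] (S ⧸ K.map φ) :=
    K.mapQ ((K.map φ).restrictScalars R) (Algebra.linearMap R S) fun a ha =>
      _root_.Ideal.mem_map_of_mem φ ha
  refine (LinearEquiv.ofBijective L ⟨?_, ?_⟩).length_eq
  · intro a c h
    obtain ⟨a, rfl⟩ := Submodule.Quotient.mk_surjective _ a
    obtain ⟨c, rfl⟩ := Submodule.Quotient.mk_surjective _ c
    have h1 : φ a - φ c ∈ K.map φ := (Submodule.Quotient.eq _).1 h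
    rw [← map_sub] at h1
    obtain ⟨y, hy, e⟩ := (_root_.Ideal.mem_map_iff_of_surjective φ hφ.2).1 h1
    exact (Submodule.Quotient.eq K).2 (hφ.1 e ▸ hy)
  · intro c
    obtain ⟨c, rfl⟩ := Submodule.Quotient.mk_surjective _ c
    obtain ⟨a, rfl⟩ := hφ.2 c
    exact ⟨Submodule.Quotient.mk a, rfl⟩

theorem stalkIdeal_eq_top_of_notMem {X : Scheme.{u}} (I : X.IdealSheafData) (x : X)
    (h : x ∉ I.support) : stalkIdeal I x = ⊤ :=
  not_not.1 fun hn => h (not_not.1 fun h' => hn ((ModelFibre.StalkIdeal.stalkIdeal_eq_top_iff I x).2 h'))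

/-- Ideals are compared stalk by stalk. -/
theorem le_of_stalkIdeal_le' {X : Scheme.{u}} {I J : X.IdealSheafData}
    (h : ∀ x, stalkIdeal I x ≤ stalkIdeal J x) : I ≤ J :=
  sup_eq_right.mp (ModelFibre.StalkIdeal.ext_of_stalkIdeal fun x => by
    rw [SurfInt.Stalk.stalkIdeal_sup, sup_eq_right.mpr (h x)])

/-- The pullback of an ideal sheaf to the local scheme at a point. -/
theorem comap_fromSpecStalk {X : Scheme.{u}} (J : X.IdealSheafData) (x : X) :
    ((J.comap (X.fromSpecStalk x)).ideal ⟨⊤, isAffineOpen_top _⟩).comap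
      (Scheme.ΓSpecIso (X.presheaf.stalk x)).inv.hom = stalkIdeal J x := by
  obtain ⟨U, hU, hxU, -⟩ := exists_isAffineOpen_mem_and_subset (U := (⊤ : X.Opens)) (x := x) trivial
  have hle : (⊤ : (Spec (X.presheaf.stalk x)).Opens) ≤ (X.fromSpecStalk x) ⁻¹ᵁ U := fun z _ => by
    have h1 : (X.fromSpecStalk x z) ∈ Set.range (X.fromSpecStalk x) := ⟨z, rfl⟩
    rw [Scheme.range_fromSpecStalk] at h1
    exact (show X.fromSpecStalk x z ⤳ x from h1).mem_open U.2 hxU
  rw [Ideal.Comap.ideal_comap _ J ⟨U, hU⟩ ⟨⊤, isAffineOpen_top _⟩ hle, stalkIdeal_eq J ⟨U, hU⟩ hxU]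
  have e : ((X.fromSpecStalk x).appLE U ⊤ hle).hom =
      (Scheme.ΓSpecIso (X.presheaf.stalk x)).inv.hom.comp (X.presheaf.germ U _ hxU).hom := by
    rw [← CommRingCat.hom_comp, Scheme.Hom.appLE, Scheme.fromSpecStalk_app hxU]
    simp only [Category.assoc, ← Functor.map_comp]
    erw [CategoryTheory.Functor.map_id]
    rfl
  rw [e, ← _root_.Ideal.map_map]
  exact _root_.Ideal.comap_map_of_bijective _ (ConcreteCategory.bijective_of_isIso _)

theorem comap_fromSpecStalk_eq {X : Scheme.{u}} (J : X.IdealSheafData) (x : X) :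
    J.comap (X.fromSpecStalk x) = Curv2.idealSheaf (X.presheaf.stalk x) (stalkIdeal J x) := by
  rw [← comap_fromSpecStalk]
  exact (S1648.idealSheaf_comap_top (J.comap (X.fromSpecStalk x))).symm

/-- Contraction sequences pull effective Cartier ideals back to effective Cartier ideals. -/
theorem isEffCartier_comap_seq {A B : Scheme.{u}} {g : A ⟶ B} (hg : Models.IsContractionSeq g) :
    ∀ {J : B.IdealSheafData}, BlowUp.IsEffCartierIdeal J → BlowUp.IsEffCartierIdeal (J.comap g) := by
  induction hg with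
  | iso e => intro J hJ; exact Ideal.EffCartier.isEffCartier_comap_of_flat _ hJ
  | step ι b r hι hE hb hr ih =>
    intro J hJ
    obtain ⟨-, -, y, hy, -, -, -, hbl⟩ := hb
    rw [Scheme.IdealSheafData.comap_comp]
    exact Ideal.BlowUp.isEffCartier_comap_blowUp hbl (ih hJ)

theorem bijective_stalkMap_of_preimm_flat {P X : Scheme.{u}} (a : P ⟶ X) [IsPreimmersion a] [Flat a]
    (z : P) : Function.Bijective (a.stalkMap z).hom := by
  letI := (a.stalkMap z).hom.toAlgebra
  haveI : Module.Flat (X.presheaf.stalk (a z)) (P.presheaf.stalk z) :=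
    RingHom.flat_algebraMap_iff.mp (Flat.stalkMap a z)
  haveI : IsLocalHom (algebraMap (X.presheaf.stalk (a z)) (P.presheaf.stalk z)) :=
    inferInstanceAs (IsLocalHom (a.stalkMap z).hom)
  haveI := Module.FaithfullyFlat.of_flat_of_isLocalHom (A := X.presheaf.stalk (a z))
    (B := P.presheaf.stalk z)
  exact ⟨FaithfulSMul.algebraMap_injective (X.presheaf.stalk (a z)) (P.presheaf.stalk z),
    a.stalkMap_surjective z⟩

/-- Closed points of the fibre of the blow-up of a regular surface point have two-dimensional local rings. -/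
theorem dim_two {A : Type u} [CommRing A] [IsRegularLocalRing A] (hA : ringKrullDim A = 2)
    {X : Scheme.{u}} {f : X ⟶ Spec (CommRingCat.of A)}
    (hb : BlowUp.IsBlowUp f (Curv2.idealSheaf A (IsLocalRing.maximalIdeal A)))
    {η x : X} (hη : f η = IsLocalRing.closedPoint A) (h : η ⤳ x) (hne : η ≠ x) :
    ringKrullDim (X.presheaf.stalk x) = 2 := by
  haveI : IsDomain A := Regular.Quotient.isDomain A
  haveI := PointBlow85.isIntegral hA hb
  haveI := PointBlow.isProper hb
  obtain ⟨U₀, hU₀, hiso⟩ := PointBlow.exists_iso hA hb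
  haveI := hiso
  refine le_antisymm ?_ ?_
  · exact (Amp36.Modif.Birat.ringKrullDim_stalk_le f U₀ hU₀ 2
      ((PrimeSpectrum.topologicalKrullDim_eq_ringKrullDim A).trans hA).le _)
  let B := X.presheaf.stalk x
  let j := X.fromSpecStalk x
  have hrange : ∀ z, z ⤳ x → ∃ q : Spec B, j q = z := fun z hz => by
    have h1 : z ∈ Set.range j := by rw [Scheme.range_fromSpecStalk]; exact hz
    exact h1
  obtain ⟨q₁, hq₁⟩ := hrange η h
  obtain ⟨q₀, hq₀⟩ := hrange (genericPoint X) (genericPoint_specializes _)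
  obtain ⟨q₂, hq₂⟩ := hrange _ specializes_rfl
  have hlt : ∀ a c : Spec B, j a ⤳ j c → j a ≠ j c →
      (a : PrimeSpectrum B).asIdeal < (c : PrimeSpectrum B).asIdeal := fun a c hac hne =>
    lt_of_le_of_ne ((PrimeSpectrum.le_iff_specializes a c).2 (j.isEmbedding.isInducing.specializes_iff.1 hac))
      fun h => hne (congrArg j (PrimeSpectrum.ext h))
  have h01 : (q₀ : PrimeSpectrum B).asIdeal < (q₁ : PrimeSpectrum B).asIdeal := by
    refine hlt _ _ (by rw [hq₀]; exact genericPoint_specializes _) ?_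
    rw [hq₀, hq₁]
    intro h
    obtain ⟨hg, -⟩ := S15137.gen_props f U₀ hU₀
    exact PointBlow.closedPoint_ne_genericPoint hA (hg.symm.trans (h ▸ hη))
  have h12 : (q₁ : PrimeSpectrum B).asIdeal < (q₂ : PrimeSpectrum B).asIdeal := by
    refine hlt _ _ (by rw [hq₁, hq₂]; exact h) ?_
    rw [hq₁, hq₂]
    exact hne
  let l : LTSeries (PrimeSpectrum B) :=
    ((RelSeries.singleton _ (q₀ : PrimeSpectrum B)).snoc q₁ h01).snoc q₂
      (by rw [RelSeries.last_snoc]; exact h12)
  exact Order.LTSeries.length_le_krullDim l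

/-- The points to be improved. -/
def Adm {X : Scheme.{u}} (T : Set X) (I : X.IdealSheafData) : Prop :=
  T.Finite ∧ (I.support : Set X) ⊆ T ∧ ∀ x ∈ T, IsClosed ({x} : Set X) ∧
    IsRegularLocalRing (X.presheaf.stalk x) ∧ ringKrullDim (X.presheaf.stalk x) = 2

set_option backward.isDefEq.respectTransparency.types false in
set_option maxHeartbeats 1000000 in
/-- One blow-up. -/
theorem exists_step (X : Scheme.{u}) [IsNoetherian X] (T : Set X) (I : X.IdealSheafData) (hT : Adm T I)
    (x : X) (hx : x ∈ T) (hxI : stalkIdeal I x ≠ ⊤) :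
    ∃ (X₁ : Scheme.{u}) (π : X₁ ⟶ X) (_ : IsNoetherian X₁) (D : Scheme.{u}) (ι : D ⟶ X₁)
      (J I₁ : X₁.IdealSheafData),
      IsClosedImmersion ι ∧ Models.IsExcCurve ι ∧ Models.IsContractionOf ι π ∧
      BlowUp.IsEffCartierIdeal J ∧ I.comap π = J * I₁ ∧ Adm (I₁.support : Set X₁) I₁ ∧
      (∀ U : X.Opens, x ∉ U → IsIso (π ∣_ U)) ∧
      (∀ z ∈ I₁.support, π z ∈ T ∧ ((π z = x ∧ len I₁ z < len I x) ∨
        (π z ≠ x ∧ len I₁ z = len I (π z)))) ∧
      (∀ z ∈ I₁.support, ∀ z' ∈ I₁.support, π z ≠ x → π z = π z' → z = z') := by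
  classical
  obtain ⟨hTf, hIT, hTp⟩ := hT
  obtain ⟨hxc, hxreg, hxdim⟩ := hTp x hx
  haveI := hxreg
  let B := X.presheaf.stalk x
  haveI : IsDomain B := Regular.Quotient.isDomain B
  -- the blow-up
  set 𝔭 := Scheme.IdealSheafData.vanishingIdeal (⟨{x}, hxc⟩ : Closeds X) with h𝔭
  obtain ⟨X₁, π, hπ⟩ := BlowUpExists.exists_isBlowUp X 𝔭
  haveI : IsProper π := BlowUpExists.isProper_of_isBlowUp hπ fun U => by
    haveI : IsNoetherianRing Γ(X, U.1) := IsLocallyNoetherian.component_noetherian U
    exact IsNoetherian.noetherian _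
  haveI : IsLocallyNoetherian X₁ := LocallyOfFiniteType.isLocallyNoetherian π
  haveI : CompactSpace X₁ := QuasiCompact.compactSpace_of_compactSpace π
  haveI hN₁ : IsNoetherian X₁ := {}
  have h𝔭s : ∀ y, y ∈ 𝔭.support ↔ y = x := fun y => by
    rw [← SetLike.mem_coe, h𝔭, Scheme.IdealSheafData.coe_support_vanishingIdeal]
    rfl
  have hisoc : IsIso (π ∣_ 𝔭.support.compl) := Ideal.BlowUp.isIso_off_center hπ
  -- the local blow-up
  let j := X.fromSpecStalk x
  haveI : Flat j := Unram.BaseChangeNhd.flat_fromSpecStalk x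
  have hloc := Ideal.BlowUp.isBlowUp_flat_baseChange j hπ
  rw [h𝔭, comap_fromSpecStalk_eq, SurfFactor85.Main.stalkIdeal_vanishingIdeal_self] at hloc
  rw [← h𝔭] at *
  let σ : pullback j π ⟶ X₁ := pullback.snd j π
  haveI : IsPreimmersion σ := MorphismProperty.pullback_snd _ _ inferInstance
  haveI : Flat σ := MorphismProperty.pullback_snd _ _ inferInstance
  haveI : AlgebraicGeometry.IsIntegral (pullback j π) :=
    PointBlow85.isIntegral (A := X.presheaf.stalk x) hxdim hloc
  haveI : IsProper (pullback.fst j π) := PointBlow.isProper (A := X.presheaf.stalk x) hloc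
  obtain ⟨U₀, hU₀, hU₀iso⟩ := PointBlow.exists_iso (A := X.presheaf.stalk x) hxdim hloc
  haveI := hU₀iso
  have hrσ : ∀ z : X₁, π z = x → ∃ w, σ w = z ∧ pullback.fst j π w = IsLocalRing.closedPoint B := by
    intro z hz
    have h1 : z ∈ Set.range σ := by
      rw [Scheme.Pullback.range_snd]
      show π z ∈ Set.range j
      rw [Scheme.range_fromSpecStalk, hz]
      exact specializes_rfl
    obtain ⟨w, hw⟩ := h1
    refine ⟨w, hw, j.isEmbedding.injective ?_⟩
    rw [Scheme.fromSpecStalk_closedPoint, ← Scheme.Hom.comp_apply, pullback.condition,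
      Scheme.Hom.comp_apply, show pullback.snd j π w = z from hw, hz]
  set E := BlowUp.exceptional π 𝔭 with hEdef
  have hEe : BlowUp.IsEffCartierIdeal E := hπ.1
  have hEσ : E.comap σ = BlowUp.exceptional (pullback.fst j π)
      (Curv2.idealSheaf B (IsLocalRing.maximalIdeal B)) := by
    rw [hEdef, BlowUp.exceptional, ← Scheme.IdealSheafData.comap_comp, ← pullback.condition,
      Scheme.IdealSheafData.comap_comp, h𝔭, comap_fromSpecStalk_eq,
      SurfFactor85.Main.stalkIdeal_vanishingIdeal_self]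
  have hIσ : (I.comap π).comap σ =
      (Curv2.idealSheaf B (stalkIdeal I x)).comap (pullback.fst j π) := by
    rw [← Scheme.IdealSheafData.comap_comp, ← pullback.condition,
      Scheme.IdealSheafData.comap_comp, comap_fromSpecStalk_eq]
  -- the ideal of the point is primary
  obtain ⟨N, hN⟩ : ∃ N, IsLocalRing.maximalIdeal B ^ N ≤ stalkIdeal I x := by
    refine Ideal.exists_pow_le_of_le_radical_of_fg ?_ (IsNoetherian.noetherian _)
    rw [_root_.Ideal.radical_eq_sInf]
    refine le_sInf fun q ⟨hIq, hq⟩ => ?_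
    by_contra hne
    let p : Spec (CommRingCat.of B) := (⟨q, hq⟩ : PrimeSpectrum B)
    have hp : p ∈ ((Curv2.idealSheaf B (stalkIdeal I x)).support : Set _) := by
      rw [SetLike.mem_coe, Scheme.IdealSheafData.mem_support_iff_of_mem (U := ⟨⊤, isAffineOpen_top _⟩) trivial,
        PointBlow85.idealSheaf_top, Scheme.mem_zeroLocus_iff]
      intro s hs
      obtain ⟨a, ha, rfl⟩ := (_root_.Ideal.mem_map_iff_of_surjective _
        (ConcreteCategory.bijective_of_isIso (Scheme.ΓSpecIso (CommRingCat.of B)).inv).2).1 hs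
      rw [basicOpen_eq_of_affine]
      exact fun ha' => ha' (hIq ha)
    rw [← comap_fromSpecStalk_eq] at hp
    have hp' : j p ∈ (I.support : Set X) := (Scheme.IdealSheafData.support_comap I j).le hp
    have h1 : j p ∈ Set.range j := ⟨p, rfl⟩
    rw [Scheme.range_fromSpecStalk] at h1
    have h2 : j p = x := ((show j p ⤳ x from h1).mem_closed (hTp _ (hIT hp')).1 rfl).symm
    have h3 : p = IsLocalRing.closedPoint B :=
      j.isEmbedding.injective (by rw [h2, Scheme.fromSpecStalk_closedPoint])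
    exact hne (congrArg PrimeSpectrum.asIdeal h3).ge
  have hIm : stalkIdeal I x ≤ IsLocalRing.maximalIdeal B := IsLocalRing.le_maximalIdeal hxI
  obtain ⟨d, J', hd, hmax⟩ := PointBlow.exists_decomp hxdim hloc (stalkIdeal I x) N hN
  obtain ⟨hfin, hcl, hfib, η, hηF, hηI, hηgen⟩ := PointBlow.residual_support hxdim hloc hN hd hmax
  haveI : Surjective π := by
    refine ⟨fun y => ?_⟩
    by_cases hy : y = x
    · refine ⟨σ η, ?_⟩
      rw [← Scheme.Hom.comp_apply, ← pullback.condition, Scheme.Hom.comp_apply,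
        show pullback.fst j π η = IsLocalRing.closedPoint B from hηF,
        Scheme.fromSpecStalk_closedPoint, hy]
    · haveI := hisoc
      exact Amp36.Modif.Birat.exists_apply_eq π 𝔭.support.compl
        (show y ∈ 𝔭.support.compl from fun h => hy ((h𝔭s y).1 h))
  have hEtop : ∀ z : X₁, π z ≠ x → stalkIdeal E z = ⊤ := fun z hz => by
    refine stalkIdeal_eq_top_of_notMem _ _ fun h => hz ((h𝔭s _).1 ?_)
    exact (Scheme.IdealSheafData.support_comap 𝔭 π).le h
  have hle : I.comap π ≤ E ^ d := by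
    refine le_of_stalkIdeal_le' fun z => ?_
    by_cases hz : π z = x
    · obtain ⟨w, rfl, -⟩ := hrσ z hz
      have h1 : stalkIdeal ((I.comap π).comap σ) w ≤ stalkIdeal ((E ^ d).comap σ) w := by
        rw [hIσ, Ideal.Comap.comap_pow, hEσ, hd, ModelFibre.StalkIdeal.stalkIdeal_mul]
        exact _root_.Ideal.mul_le_right
      rw [CartierDescent.stalkIdeal_comap σ (I.comap π), CartierDescent.stalkIdeal_comap σ (E ^ d)] at h1
      intro a ha
      have h2 := h1 (_root_.Ideal.mem_map_of_mem _ ha)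
      obtain ⟨c, hc, e⟩ := (_root_.Ideal.mem_map_iff_of_surjective _
        (bijective_stalkMap_of_preimm_flat σ w).2).1 h2
      exact (bijective_stalkMap_of_preimm_flat σ w).1 e ▸ hc
    · rw [ModelFibre.StalkIdeal.stalkIdeal_pow, hEtop z hz, _root_.Ideal.top_pow]
      exact le_top
  have hEd : BlowUp.IsEffCartierIdeal (E ^ d) := Ideal.EffCartier.isEffCartier_pow hEe d
  let I₁ := RelDiv.Diff.colon (I.comap π) (E ^ d) (RelDiv.Diff.fg_of_isEffCartier hEd)
  have hmul : E ^ d * I₁ = I.comap π := RelDiv.Diff.mul_colon hEd hle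
  have hI₁σ : ∀ w, stalkIdeal (I₁.comap σ) w = stalkIdeal J' w := fun w => by
    have h1 : (E ^ d * I₁).comap σ =
        J' * BlowUp.exceptional (pullback.fst j π) (Curv2.idealSheaf B (IsLocalRing.maximalIdeal B)) ^ d := by
      rw [hmul, hIσ, hd]
    rw [Ideal.Comap.comap_mul, Ideal.Comap.comap_pow, hEσ, mul_comm] at h1
    have h2 := congrArg (fun K => stalkIdeal K w) h1
    simp only [ModelFibre.StalkIdeal.stalkIdeal_mul] at h2
    obtain ⟨g, hg, hgs⟩ := CartierDescent.stalkIdeal_eq_span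
      (Ideal.EffCartier.isEffCartier_pow hloc.1 d) w
    rw [hgs] at h2
    rw [mul_comm, mul_comm (stalkIdeal J' w)] at h2
    exact (_root_.Ideal.span_singleton_mul_right_inj (nonZeroDivisors.ne_zero hg)).1 h2
  have hsuppI : ∀ z ∈ I₁.support, π z ∈ T := fun z hz => by
    refine hIT ?_
    have h1 : z ∈ (E ^ d * I₁).support := Or.inr hz
    rw [hmul] at h1
    exact (Scheme.IdealSheafData.support_comap I π).le h1
  have hw : ∀ w, σ w ∈ I₁.support → w ∈ J'.support := fun w hw => by
    refine not_not.1 fun hn => ?_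
    have h1 : w ∈ (I₁.comap σ).support := (Scheme.IdealSheafData.support_comap I₁ σ).ge hw
    have h2 := (ModelFibre.StalkIdeal.stalkIdeal_eq_top_iff (I₁.comap σ) w).1
      (by rw [hI₁σ]; exact stalkIdeal_eq_top_of_notMem _ _ hn)
    exact h2 h1
  have hinj : ∀ z z', π z ≠ x → π z = π z' → z = z' := fun z z' hz he => by
    haveI := hisoc
    exact Amp36.Modif.Birat.eq_of_apply_eq π 𝔭.support.compl
      (show π z ∈ 𝔭.support.compl from fun h => hz ((h𝔭s _).1 h)) he
  have hbij : ∀ z, π z ≠ x → Function.Bijective (π.stalkMap z) := fun z hz => by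
    haveI := hisoc
    exact Amp36.Modif.Birat.stalkMap_bijective π 𝔭.support.compl
      (show π z ∈ 𝔭.support.compl from fun h => hz ((h𝔭s _).1 h))
  obtain ⟨-, hreg₁⟩ := S1622.result B hxdim _ _ hloc
  refine ⟨X₁, π, hN₁, _, E.subschemeι, E ^ d, I₁, inferInstance,
    SurfFactor85.Seq.isExcCurve π x hxc hxdim hπ,
    SurfFactor85.Seq.isContractionOf π x hxc hxdim hπ, hEd, hmul.symm, ⟨?_, subset_rfl, ?_⟩,
    fun U hU => ?_, fun z hz => ⟨hsuppI z hz, ?_⟩, fun z _ z' _ h1 h2 => hinj z z' h1 h2⟩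
  · refine ((hfin.image σ).union (Set.Finite.of_finite_image (f := π)
      (s := {z | π z ∈ T ∧ π z ≠ x})
      (hTf.subset fun y hy => by obtain ⟨z, hz, rfl⟩ := hy; exact hz.1) ?_)).subset fun z hz => ?_
    · intro z hz z' _ he; exact hinj z z' hz.2 he
    by_cases hzx : π z = x
    · obtain ⟨w, rfl, -⟩ := hrσ z hzx
      exact Or.inl ⟨w, hw w hz, rfl⟩
    · exact Or.inr ⟨hsuppI z hz, hzx⟩
  · intro z hz
    by_cases hzx : π z = x
    · obtain ⟨w, rfl, hwc⟩ := hrσ z hzx
      refine ⟨?_, ?_, ?_⟩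
      · refine isClosed_of_closure_subset fun v hv => ?_
        have hzv : σ w ⤳ v := specializes_iff_mem_closure.2 hv
        have hv' : π v = x := (hzv.map π.continuous).mem_closed hxc hzx
        obtain ⟨w', rfl, -⟩ := hrσ v hv'
        have h2 : w' ∈ ({w} : Set _) := (hcl w (hw w hz)).closure_eq ▸
          specializes_iff_mem_closure.1 (σ.isEmbedding.isInducing.specializes_iff.1 hzv)
        rw [Set.mem_singleton_iff.1 h2]
        rfl
      · haveI := hreg₁ w
        exact IsRegularLocalRing.of_ringEquiv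
          (RingEquiv.ofBijective _ (bijective_stalkMap_of_preimm_flat σ w)).symm
      · rw [ringKrullDim_eq_of_ringEquiv (RingEquiv.ofBijective _ (bijective_stalkMap_of_preimm_flat σ w))]
        exact dim_two hxdim hloc hηF (hηgen w hwc) fun h => hηI (h ▸ hw w hz)
    · obtain ⟨hyc, hyreg, hydim⟩ := hTp _ (hsuppI z hz)
      refine ⟨?_, ?_, ?_⟩
      · convert hyc.preimage π.continuous using 1
        ext v
        exact ⟨fun h => congrArg π h, fun h => (hinj z v hzx (Eq.symm h)).symm⟩
      · haveI := hyreg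
        exact IsRegularLocalRing.of_ringEquiv (RingEquiv.ofBijective _ (hbij z hzx))
      · rw [← ringKrullDim_eq_of_ringEquiv (RingEquiv.ofBijective _ (hbij z hzx))]
        exact hydim
  · refine SurfFactor85.Seq.isIso_restrict_le π hisoc fun y hy h => hU ?_
    rw [← (h𝔭s y).1 h]
    exact hy
  · by_cases hzx : π z = x
    · refine Or.inl ⟨hzx, ?_⟩
      obtain ⟨w, rfl, -⟩ := hrσ z hzx
      have hlen : len I₁ (σ w) = len J' w := by
        rw [len, length_quot_equiv _ (bijective_stalkMap_of_preimm_flat σ w) (stalkIdeal I₁ (σ w)),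
          ← CartierDescent.stalkIdeal_comap, hI₁σ]
        rfl
      rw [hlen]
      letI : (pullback j π).Over (Spec (CommRingCat.of B)) := ⟨pullback.fst j π⟩
      obtain ⟨-, -, -, hlt, hsum⟩ := S7360.result B hxdim (pullback j π) hloc (stalkIdeal I x) N hN hIm
        d J' hd hmax
      obtain ⟨p, hp⟩ : ∃ p, J'.subschemeι p = w :=
        (Scheme.IdealSheafData.range_subschemeι J').ge (hw w hz)
      subst hp
      haveI : Finite ↥(J'.support : Set (pullback j π : Scheme.{u})) := hfin.to_subtype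
      haveI : Finite J'.subscheme := Finite.of_injective
        (fun q => (⟨J'.subschemeι q, (Scheme.IdealSheafData.range_subschemeι J').le ⟨q, rfl⟩⟩ :
          ↥(J'.support : Set (pullback j π : Scheme.{u}))))
        fun a c h => J'.subschemeι.isClosedEmbedding.injective (congrArg Subtype.val h)
      letI := Fintype.ofFinite J'.subscheme
      refine lt_of_le_of_lt ?_ hlt
      refine le_trans ?_ hsum
      rw [finsum_eq_sum_of_fintype, len, ← comap_fromSpecStalk, S1648.length_stalk J' p]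
      exact Finset.single_le_sum (f := fun q : J'.subscheme =>
        Module.length (J'.subscheme.presheaf.stalk q) (J'.subscheme.presheaf.stalk q))
        (fun _ _ => bot_le) (Finset.mem_univ p)
    · refine Or.inr ⟨hzx, ?_⟩
      have h1 : stalkIdeal I₁ z = stalkIdeal (I.comap π) z := by
        rw [← hmul, ModelFibre.StalkIdeal.stalkIdeal_mul, ModelFibre.StalkIdeal.stalkIdeal_pow,
          hEtop z hzx, _root_.Ideal.top_pow, _root_.Ideal.top_mul]
      rw [len, h1, CartierDescent.stalkIdeal_comap, len]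
      exact (length_quot_equiv _ (hbij z hzx) _).symm

/-- A finite support becomes invertible after finitely many point blow-ups. -/
theorem exists_principal : ∀ (n : ℕ) (X : Scheme.{u}) [IsNoetherian X] (T : Set X) (I : X.IdealSheafData),
    Adm T I → (∀ x ∈ T, len I x ≤ (n : ℕ∞)) →
    ∃ (X' : Scheme.{u}) (g : X' ⟶ X), Models.IsContractionSeq g ∧
      (∀ U : X.Opens, Disjoint T (U : Set X) → IsIso (g ∣_ U)) ∧
      BlowUp.IsEffCartierIdeal (I.comap g) := by
  classical
  intro n
  induction n with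
  | zero =>
    intro X _ T I hT hlen
    have htop : I = ⊤ := ModelFibre.StalkIdeal.ext_of_stalkIdeal fun x => by
      rw [ModelFibre.StalkIdeal.stalkIdeal_top]
      by_cases hx : x ∈ T
      · have h := le_antisymm (hlen x hx) bot_le
        rw [len, Nat.cast_zero] at h
        rw [Module.length_eq_zero_iff] at h
        exact _root_.Ideal.Quotient.subsingleton_iff.1 h
      · exact stalkIdeal_eq_top_of_notMem _ _ fun h => hx (hT.2.1 h)
    refine ⟨X, 𝟙 X, Models.IsContractionSeq.iso (Iso.refl X), fun U _ => inferInstance, ?_⟩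
    rw [Scheme.IdealSheafData.comap_id, htop]
    exact Ideal.EffCartier.isEffCartier_top
  | succ n ih =>
    suffices key : ∀ (k : ℕ) (X : Scheme.{u}) [IsNoetherian X] (T : Set X) (I : X.IdealSheafData),
        Adm T I → (∀ x ∈ T, len I x ≤ ((n + 1 : ℕ) : ℕ∞)) →
        {x ∈ T | ¬ len I x ≤ (n : ℕ∞)}.ncard ≤ k →
        ∃ (X' : Scheme.{u}) (g : X' ⟶ X), Models.IsContractionSeq g ∧
          (∀ U : X.Opens, Disjoint T (U : Set X) → IsIso (g ∣_ U)) ∧
          BlowUp.IsEffCartierIdeal (I.comap g) from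
      fun X _ T I hT hlen => key _ X T I hT hlen le_rfl
    intro k
    induction k with
    | zero =>
      intro X _ T I hT hlen hk
      refine ih X T I hT fun x hx => ?_
      by_contra hn
      have hmem : x ∈ {x ∈ T | ¬ len I x ≤ (n : ℕ∞)} := ⟨hx, hn⟩
      rw [Nat.le_zero, Set.ncard_eq_zero (hT.1.subset (Set.sep_subset _ _))] at hk
      rw [hk] at hmem
      exact hmem
    | succ k ihk =>
      intro X _ T I hT hlen hk
      by_cases hbad : ∃ x ∈ T, ¬ len I x ≤ (n : ℕ∞)
      swap
      · push Not at hbad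
        exact ih X T I hT hbad
      obtain ⟨x, hx, hxn⟩ := hbad
      have hxI : stalkIdeal I x ≠ ⊤ := fun h => hxn (by
        rw [len, h, Module.length_eq_zero (R := X.presheaf.stalk x)]
        exact bot_le)
      obtain ⟨X₁, π, hN₁, D, ι, J, I₁, hι, hE, hc, hJ, hIJ, hT₁, hiso, hlen₁, hinj⟩ :=
        exists_step X T I hT x hx hxI
      haveI := hN₁
      have hle₁ : ∀ z ∈ I₁.support, len I₁ z ≤ ((n + 1 : ℕ) : ℕ∞) := fun z hz => by
        obtain ⟨hzT, h | h⟩ := hlen₁ z hz
        · exact h.2.le.trans (hlen x hx)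
        · exact h.2.trans_le (hlen _ hzT)
      have hgood : ∀ z ∈ I₁.support, ¬ len I₁ z ≤ (n : ℕ∞) → π z ≠ x := fun z hz hzn hzx => by
        refine hzn ?_
        obtain ⟨-, h | h⟩ := hlen₁ z hz
        · have h1 := lt_of_lt_of_le h.2 (hlen x hx)
          exact (ENat.lt_add_one_iff (ENat.natCast_ne_top n)).1 (by exact_mod_cast h1)
        · exact absurd hzx h.1
      obtain ⟨X', g, hg, hgiso, hge⟩ := ihk X₁ (I₁.support : Set X₁) I₁ hT₁ hle₁ (by
        refine le_trans (Set.ncard_le_ncard_of_injOn π (t := {y ∈ T | ¬ len I y ≤ (n : ℕ∞)} \ {x})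
          (fun z hz => ?_) (fun z hz z' hz' he => hinj z hz.1 z' hz'.1 (hgood z hz.1 hz.2) he)
          ((hT.1.subset (Set.sep_subset _ _)).sdiff)) ?_
        · obtain ⟨hzT, h | h⟩ := hlen₁ z hz.1
          · exact absurd h.1 (hgood z hz.1 hz.2)
          · exact ⟨⟨hzT, h.2 ▸ hz.2⟩, h.1⟩
        · have h1 := Set.ncard_sdiff_singleton_add_one (show x ∈ {y ∈ T | ¬ len I y ≤ (n : ℕ∞)} from ⟨hx, hxn⟩)
            (hT.1.subset (Set.sep_subset _ _))
          omega)
      refine ⟨X', g ≫ π, SurfFactor85.Seq.isContractionSeq_comp hg π ι hι hE hc, fun U hU => ?_, ?_⟩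
      · rw [morphismRestrict_comp]
        exact IsIso.comp_isIso' (hgiso (π ⁻¹ᵁ U) (Set.disjoint_left.2 fun z hz hz' =>
          Set.disjoint_left.1 hU (hlen₁ z hz).1 hz')) (hiso U (Set.disjoint_left.1 hU hx))
      · rw [Scheme.IdealSheafData.comap_comp, hIJ, Ideal.Comap.comap_mul]
        exact Ideal.EffCartier.isEffCartier_mul (isEffCartier_comap_seq hg hJ) hge

/-- The bound on the colengths. -/
theorem exists_bound (X : Scheme.{u}) [IsNoetherian X] (T : Set X) (I : X.IdealSheafData) (hT : Adm T I) :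
    ∃ n : ℕ, ∀ x ∈ T, len I x ≤ (n : ℕ∞) := by
  classical
  have hfin : ∀ x ∈ T, len I x ≠ ⊤ := fun x hx => by
    haveI := (hT.2.2 x hx).2.1
    let B := X.presheaf.stalk x
    obtain ⟨N, hN⟩ : ∃ N, IsLocalRing.maximalIdeal B ^ N ≤ stalkIdeal I x := by
      refine Ideal.exists_pow_le_of_le_radical_of_fg ?_ (IsNoetherian.noetherian _)
      rw [_root_.Ideal.radical_eq_sInf]
      refine le_sInf fun q ⟨hIq, hq⟩ => ?_
      by_contra hne
      let p : Spec (CommRingCat.of B) := (⟨q, hq⟩ : PrimeSpectrum B)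
      have hp : p ∈ ((Curv2.idealSheaf B (stalkIdeal I x)).support : Set _) := by
        rw [SetLike.mem_coe, Scheme.IdealSheafData.mem_support_iff_of_mem (U := ⟨⊤, isAffineOpen_top _⟩) trivial,
          PointBlow85.idealSheaf_top, Scheme.mem_zeroLocus_iff]
        intro s hs
        obtain ⟨a, ha, rfl⟩ := (_root_.Ideal.mem_map_iff_of_surjective _
          (ConcreteCategory.bijective_of_isIso (Scheme.ΓSpecIso (CommRingCat.of B)).inv).2).1 hs
        rw [basicOpen_eq_of_affine]
        exact fun ha' => ha' (hIq ha)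
      rw [← comap_fromSpecStalk_eq] at hp
      have hp' : X.fromSpecStalk x p ∈ (I.support : Set X) :=
        (Scheme.IdealSheafData.support_comap I (X.fromSpecStalk x)).le hp
      have h1 : X.fromSpecStalk x p ∈ Set.range (X.fromSpecStalk x) := ⟨p, rfl⟩
      rw [Scheme.range_fromSpecStalk] at h1
      have h2 : X.fromSpecStalk x p = x :=
        ((show X.fromSpecStalk x p ⤳ x from h1).mem_closed (hT.2.2 _ (hT.2.1 hp')).1 rfl).symm
      have h3 : p = IsLocalRing.closedPoint B :=
        (X.fromSpecStalk x).isEmbedding.injective (by rw [h2, Scheme.fromSpecStalk_closedPoint])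
      exact hne (congrArg PrimeSpectrum.asIdeal h3).ge
    exact Module.length_ne_top_iff.2 (IsFiniteLength.of_surjective
      (InjHull.Complete.isFiniteLength_quotient_pow (R := B) (IsLocalRing.maximalIdeal B) N)
      (f := Submodule.factor hN) (Submodule.factor_surjective hN))
  refine ⟨hT.1.toFinset.sup fun x => (len I x).toNat, fun x hx => ?_⟩
  rw [← ENat.natCast_toNat (hfin x hx)]
  exact_mod_cast Finset.le_sup (f := fun x => (len I x).toNat) (hT.1.mem_toFinset.2 hx)

end Groth.Agent.Lib.Amp36.Modif.Principalise
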